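import Cfsg.Agent.H26.AIC.Basic

set_option autoImplicit false
set_option linter.style.haveILetI false
set_option linter.unusedSectionVars false

/-! S2202-MAXODD: the largest normal subgroup of odd order, and its quotient. -/

namespace Cfsg.Agent.H73.AIC

open Subgroup Cfsg.Agent.H26 Cfsg.Agent.H26.AIC

variable {G : Type*} [Group G] [Finite G]

/-- The join of a subgroup of odd order with a normal subgroup of odd order has odd order. -/
theorem odd_card_sup (Y N : Subgroup G) [N.Normal]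
    (hY : Odd (Nat.card Y)) (hN : Odd (Nat.card N)) : Odd (Nat.card (Y ⊔ N : Subgroup G)) := by
  have h1 : Nat.card N * N.relIndex (Y ⊔ N) = Nat.card (Y ⊔ N : Subgroup G) := by
    have := Subgroup.relIndex_mul_relIndex (⊥ : Subgroup G) N (Y ⊔ N) bot_le le_sup_right
    rwa [Subgroup.relIndex_bot_left, Subgroup.relIndex_bot_left] at this
  rw [← h1, Subgroup.relIndex_sup_right]
  exact hN.mul (hY.of_dvd_nat (Subgroup.relIndex_dvd_card N Y))

theorem exists_max_odd_normal (G : Type*) [Group G] [Finite G] :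
    ∃ N : Subgroup G, N.Normal ∧ Odd (Nat.card N) ∧
      ∀ Y : Subgroup G, Y.Normal → Odd (Nat.card Y) → Y ≤ N := by
  let S : Set (Subgroup G) := {N | N.Normal ∧ Odd (Nat.card N)}
  have hne : S.Nonempty := ⟨⊥, Subgroup.normal_bot, by simp⟩
  obtain ⟨N, hN, hmax⟩ := Set.exists_max_image S (fun N => Nat.card N) (Set.toFinite S) hne
  refine ⟨N, hN.1, hN.2, fun Y hYn hYo => ?_⟩
  haveI := hN.1
  haveI := hYn
  have hS : Y ⊔ N ∈ S := ⟨inferInstance, odd_card_sup Y N hYo hN.2⟩
  have hle := hmax _ hS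
  have heq : N = Y ⊔ N := Subgroup.eq_of_le_of_card_ge le_sup_right hle
  rw [heq]; exact le_sup_left

theorem quot_noOdd (N : Subgroup G) [N.Normal] (hodd : Odd (Nat.card N))
    (hmax : ∀ Y : Subgroup G, Y.Normal → Odd (Nat.card Y) → Y ≤ N) : NoOdd (G ⧸ N) := by
  intro Yb hYbn hYbo
  let Y : Subgroup G := Yb.comap (QuotientGroup.mk' N)
  have hYn : Y.Normal := hYbn.comap _
  have hidx : Y.index = Yb.index :=
    Subgroup.index_comap_of_surjective Yb (QuotientGroup.mk'_surjective N)
  have h1 : Nat.card Y * Y.index = Nat.card G := Subgroup.card_mul_index Y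
  have h2 : Nat.card Yb * Yb.index = Nat.card (G ⧸ N) := Subgroup.card_mul_index Yb
  have h3 : Nat.card G = Nat.card (G ⧸ N) * Nat.card N :=
    Subgroup.card_eq_card_quotient_mul_card_subgroup N
  have hidx0 : Yb.index ≠ 0 := Subgroup.index_ne_zero_of_finite
  have hcard : Nat.card Y = Nat.card Yb * Nat.card N := by
    have h4 : Nat.card Y * Yb.index = Nat.card Yb * Nat.card N * Yb.index := by
      rw [← hidx, h1, h3, ← h2, hidx]; ring
    exact Nat.eq_of_mul_eq_mul_right (Nat.pos_of_ne_zero hidx0) h4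
  have hYo : Odd (Nat.card Y) := by rw [hcard]; exact hYbo.mul hodd
  have hle := hmax Y hYn hYo
  rw [eq_bot_iff]
  intro y hy
  obtain ⟨g, rfl⟩ := QuotientGroup.mk'_surjective N y
  have hg : g ∈ Y := hy
  rw [Subgroup.mem_bot]
  exact (QuotientGroup.eq_one_iff g).mpr (hle hg)

end Cfsg.Agent.H73.AIC

section check
open Subgroup Cfsg.Agent.H26 Cfsg.Agent.H26.AIC
variable {G : Type*} [Group G] [Finite G]
example (G : Type*) [Group G] [Finite G] :
    ∃ N : Subgroup G, N.Normal ∧ Odd (Nat.card N) ∧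
      ∀ Y : Subgroup G, Y.Normal → Odd (Nat.card Y) → Y ≤ N :=
  Cfsg.Agent.H73.AIC.exists_max_odd_normal G
example (N : Subgroup G) [N.Normal] (hodd : Odd (Nat.card N))
    (hmax : ∀ Y : Subgroup G, Y.Normal → Odd (Nat.card Y) → Y ≤ N) : NoOdd (G ⧸ N) :=
  Cfsg.Agent.H73.AIC.quot_noOdd N hodd hmax
end check
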