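import Cfsg.Agent.H26.AIC.Basic

set_option autoImplicit false
set_option linter.style.haveILetI false
set_option linter.unusedSectionVars false

/-! S2202-NOINV: an involution cannot invert an element of the centralizer of a Sylow 2-subgroup
unless that element has order at most two. -/

namespace Cfsg.Agent.H73.AIC

open Subgroup Cfsg.Agent.H26 Cfsg.Agent.H26.AIC

variable {G : Type*} [Group G] [Finite G]

theorem no_invert (hH : Hyp G) (P : Sylow 2 G) {c t : G} (hc : c ∈ MT P) (ht : orderOf t = 2)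
    (hinv : t * c * t⁻¹ = c⁻¹) : c * c = 1 := by
  have hPne : (P : Subgroup G) ≠ ⊥ := by
    intro hb
    obtain ⟨Q, hQ⟩ := exists_syl_of_inv ht
    obtain ⟨g, rfl⟩ := exists_conj_syl P Q
    rw [mem_smul_syl, hb, Subgroup.mem_bot] at hQ
    have h1 : t = 1 := by
      have h' : t = g * (g⁻¹ * t * g) * g⁻¹ := by group
      rw [h', hQ]; group
    rw [h1, orderOf_one] at ht
    omega
  obtain ⟨u, hu, huP⟩ := exists_inv_mem hPne
  have huc : u * c = c * u := (mem_MT P c).mp hc u huP
  have hu2 : u * u = 1 := by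
    have := pow_orderOf_eq_one u; rw [hu, pow_two] at this; exact this
  have ht2 : t * t = 1 := by
    have := pow_orderOf_eq_one t; rw [ht, pow_two] at this; exact this
  have huinv : u⁻¹ = u := inv_eq_of_mul_eq_one_left hu2
  have htinv : t⁻¹ = t := inv_eq_of_mul_eq_one_left ht2
  obtain ⟨r, hr⟩ : ∃ r : G, r = u * t := ⟨_, rfl⟩
  have hrc : r * c * r⁻¹ = c⁻¹ := by
    have h1 : r * c * r⁻¹ = u * (t * c * t⁻¹) * u⁻¹ := by rw [hr]; group
    rw [h1, hinv]
    have h2 : u * c⁻¹ = c⁻¹ * u := by
      have hcu : Commute u c := huc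
      exact hcu.inv_right.eq
    rw [h2, mul_inv_cancel_right]
  have hsc : SemiconjBy r c c⁻¹ := by
    show r * c = c⁻¹ * r
    rw [← hrc]; group
  have hfin : Commute r c → c * c = 1 := by
    intro hcomm
    have h3 : r * c * r⁻¹ = c := by rw [hcomm.eq, mul_inv_cancel_right]
    rw [h3] at hrc
    calc c * c = c * c⁻¹ := by rw [← hrc]
      _ = 1 := mul_inv_cancel c
  have hc2 : Commute (r ^ 2) c := by
    have h4 : SemiconjBy r c⁻¹ c := by simpa using hsc.inv_right
    have h5 := h4.mul_left hsc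
    rw [pow_two]; exact h5
  rcases Nat.even_or_odd (orderOf r) with hev | hodd
  · obtain ⟨k, hk⟩ := hev
    have hrpos : 0 < orderOf r := orderOf_pos r
    have hk0 : 0 < k := by omega
    obtain ⟨z, hz⟩ : ∃ z : G, z = r ^ k := ⟨_, rfl⟩
    have hz2 : z * z = 1 := by
      rw [hz, ← pow_add, ← hk]; exact pow_orderOf_eq_one r
    have hz1 : z ≠ 1 := by
      rw [hz]; exact pow_ne_one_of_lt_orderOf hk0.ne' (by omega)
    have hzo : orderOf z = 2 := by
      have : Fact (Nat.Prime 2) := ⟨Nat.prime_two⟩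
      exact orderOf_eq_prime (by rw [pow_two]; exact hz2) hz1
    have hzinv : z⁻¹ = z := inv_eq_of_mul_eq_one_left hz2
    have hur : SemiconjBy u r r⁻¹ := by
      show u * r = r⁻¹ * u
      rw [hr, mul_inv_rev, huinv, htinv, ← mul_assoc, hu2, one_mul, mul_assoc, hu2, mul_one]
    have htr : SemiconjBy t r r⁻¹ := by
      show t * r = r⁻¹ * t
      rw [hr, mul_inv_rev, huinv, htinv, mul_assoc]
    have huz : u * z = z * u := by
      have h6 := hur.pow_right k
      rw [inv_pow, ← hz, hzinv] at h6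
      exact h6.eq
    have htz : t * z = z * t := by
      have h6 := htr.pow_right k
      rw [inv_pow, ← hz, hzinv] at h6
      exact h6.eq
    have hcz : c * z = z * c := hH u hu c z huc.symm huz.symm
    have hct : c * t = t * c := hH z hzo c t hcz htz
    have h5 : t * c * t⁻¹ = c := by rw [← hct, mul_inv_cancel_right]
    rw [h5] at hinv
    calc c * c = c * c⁻¹ := by rw [← hinv]
      _ = 1 := mul_inv_cancel c
  · obtain ⟨k, hk⟩ := hodd
    apply hfin
    have hc3 : Commute (r ^ (2 * k)) c := by rw [pow_mul]; exact hc2.pow_left k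
    have hrinv : r ^ (2 * k) = r⁻¹ := by
      rw [eq_inv_iff_mul_eq_one, ← pow_succ, ← hk]; exact pow_orderOf_eq_one r
    rw [hrinv] at hc3
    simpa using hc3.inv_left

end Cfsg.Agent.H73.AIC

section check
open Subgroup Cfsg.Agent.H26 Cfsg.Agent.H26.AIC
variable {G : Type*} [Group G] [Finite G]
example (hH : Hyp G) (P : Sylow 2 G) {c t : G} (hc : c ∈ MT P) (ht : orderOf t = 2)
    (hinv : t * c * t⁻¹ = c⁻¹) : c * c = 1 :=
  Cfsg.Agent.H73.AIC.no_invert hH P hc ht hinv
end check
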