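import Cfsg.Agent.H26.AIC.Basic

set_option autoImplicit false
set_option linter.style.haveILetI false
set_option linter.unusedSectionVars false

/-! S2202-QUOT: lifting involutions and centralizers through a quotient by a normal subgroup of
odd order. -/

namespace Cfsg.Agent.H73.AIC

open Subgroup Cfsg.Agent.H26 Cfsg.Agent.H26.AIC

variable {G : Type*} [Group G] [Finite G]

theorem quot_lift_inv (N : Subgroup G) [N.Normal] (hodd : Odd (Nat.card N)) {y : G ⧸ N}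
    (hy : orderOf y = 2) : ∃ u : G, orderOf u = 2 ∧ (u : G ⧸ N) = y := by
  obtain ⟨x, rfl⟩ := QuotientGroup.mk_surjective y
  have hy2 : (x : G ⧸ N) ^ 2 = 1 := by rw [← hy]; exact pow_orderOf_eq_one _
  have hx2 : x ^ 2 ∈ N := by
    rw [← QuotientGroup.eq_one_iff, QuotientGroup.mk_pow]; exact hy2
  have hmodd : Odd (orderOf (x ^ 2)) := by
    have hdvd : orderOf (x ^ 2) ∣ Nat.card N := by
      have := orderOf_dvd_natCard (⟨x ^ 2, hx2⟩ : N)
      rwa [Subgroup.orderOf_mk] at this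
    exact hodd.of_dvd_nat hdvd
  obtain ⟨j, hj⟩ := hmodd
  have hmk : ((x ^ (2 * j + 1) : G) : G ⧸ N) = (x : G ⧸ N) := by
    rw [QuotientGroup.mk_pow, pow_succ, pow_mul, hy2, one_pow, one_mul]
  refine ⟨x ^ (2 * j + 1), ?_, hmk⟩
  have : Fact (Nat.Prime 2) := ⟨Nat.prime_two⟩
  apply orderOf_eq_prime
  · rw [← pow_mul, mul_comm, pow_mul, ← hj]; exact pow_orderOf_eq_one _
  · intro h1
    rw [h1] at hmk
    have h2 : (x : G ⧸ N) = 1 := hmk.symm
    rw [h2, orderOf_one] at hy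
    omega

theorem quot_lift_comm (N : Subgroup G) [N.Normal] (hodd : Odd (Nat.card N)) {u x : G}
    (hu : orderOf u = 2) (h : (x : G ⧸ N) * (u : G ⧸ N) = (u : G ⧸ N) * (x : G ⧸ N)) :
    ∃ x' : G, (x' : G ⧸ N) = (x : G ⧸ N) ∧ x' * u = u * x' := by
  have hu2 : u * u = 1 := by
    have := pow_orderOf_eq_one u; rw [hu, pow_two] at this; exact this
  have huinv : u⁻¹ = u := inv_eq_of_mul_eq_one_left hu2
  have hui2 : u⁻¹ * u⁻¹ = 1 := by rw [← mul_inv_rev, hu2, inv_one]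
  obtain ⟨a, ha⟩ : ∃ a : G, a = x⁻¹ * (u * x * u⁻¹) := ⟨_, rfl⟩
  have haN : a ∈ N := by
    rw [← QuotientGroup.eq_one_iff, ha]
    simp only [QuotientGroup.mk_mul, QuotientGroup.mk_inv]
    rw [← h, mul_inv_cancel_right, inv_mul_cancel]
  have hua : u * a * u⁻¹ = a⁻¹ := by
    have e2 : (x⁻¹ * (u * x * u⁻¹))⁻¹ = u * x⁻¹ * u⁻¹ * x := by group
    rw [ha, e2]
    calc u * (x⁻¹ * (u * x * u⁻¹)) * u⁻¹ = u * x⁻¹ * u * x * (u⁻¹ * u⁻¹) := by group
      _ = u * x⁻¹ * u⁻¹ * x := by rw [hui2, mul_one, huinv]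
  have hmodd : Odd (orderOf a) := by
    have hdvd : orderOf a ∣ Nat.card N := by
      have := orderOf_dvd_natCard (⟨a, haN⟩ : N)
      rwa [Subgroup.orderOf_mk] at this
    exact hodd.of_dvd_nat hdvd
  obtain ⟨j, hj⟩ := hmodd
  obtain ⟨r, hr⟩ : ∃ r : G, r = a ^ (j + 1) := ⟨_, rfl⟩
  have hrr : r * r = a := by
    rw [hr, ← pow_add]
    have e : j + 1 + (j + 1) = (2 * j + 1) + 1 := by ring
    rw [e, pow_succ, ← hj, pow_orderOf_eq_one, one_mul]
  have hrN : r ∈ N := by rw [hr]; exact N.pow_mem haN _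
  have hur : u * r * u⁻¹ = r⁻¹ := by
    have hs : SemiconjBy u a a⁻¹ := by
      show u * a = a⁻¹ * u
      rw [← hua]; group
    have hs2 := hs.pow_right (j + 1)
    rw [inv_pow, ← hr] at hs2
    have hs3 : u * r = r⁻¹ * u := hs2
    rw [hs3, mul_inv_cancel_right]
  have h1 : u * x * u⁻¹ = x * a := by rw [ha]; group
  refine ⟨x * r, ?_, ?_⟩
  · rw [QuotientGroup.mk_mul, (QuotientGroup.eq_one_iff r).mpr hrN, mul_one]
  · have h3 : u * (x * r) = (u * x * u⁻¹) * (u * r * u⁻¹) * u := by group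
    rw [h3, h1, hur, ← hrr]
    group

theorem quot_hyp (hH : Hyp G) (N : Subgroup G) [N.Normal] (hodd : Odd (Nat.card N)) :
    Hyp (G ⧸ N) := by
  intro t ht a b hat hbt
  obtain ⟨u, hu, rfl⟩ := quot_lift_inv N hodd ht
  obtain ⟨a0, rfl⟩ := QuotientGroup.mk_surjective a
  obtain ⟨b0, rfl⟩ := QuotientGroup.mk_surjective b
  obtain ⟨a', ha', hau⟩ := quot_lift_comm N hodd hu hat
  obtain ⟨b', hb', hbu⟩ := quot_lift_comm N hodd hu hbt
  rw [← ha', ← hb', ← QuotientGroup.mk_mul, ← QuotientGroup.mk_mul, hH u hu a' b' hau hbu]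

theorem quot_exp2 (N : Subgroup G) [N.Normal] (hodd : Odd (Nat.card N))
    (h : ∀ x u : G, orderOf u = 2 → x * u = u * x → x * x ∈ N) : Exp2 (G ⧸ N) := by
  intro t ht c hct
  obtain ⟨u, hu, rfl⟩ := quot_lift_inv N hodd ht
  obtain ⟨c0, rfl⟩ := QuotientGroup.mk_surjective c
  obtain ⟨c', hc', hcu⟩ := quot_lift_comm N hodd hu hct
  rw [← hc', ← QuotientGroup.mk_mul]
  exact (QuotientGroup.eq_one_iff _).mpr (h c' u hu hcu)

theorem exp2_quot_imp (N : Subgroup G) [N.Normal] (hodd : Odd (Nat.card N)) (hE : Exp2 (G ⧸ N))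
    {u x : G} (hu : orderOf u = 2) (hx : x * u = u * x) : x * x ∈ N := by
  have huN : u ∉ N := by
    intro huN
    have hdvd : orderOf u ∣ Nat.card N := by
      have := orderOf_dvd_natCard (⟨u, huN⟩ : N)
      rwa [Subgroup.orderOf_mk] at this
    rw [hu] at hdvd
    exact (Nat.not_even_iff_odd.mpr hodd) (even_iff_two_dvd.mpr hdvd)
  have huo : orderOf (u : G ⧸ N) = 2 := by
    have : Fact (Nat.Prime 2) := ⟨Nat.prime_two⟩
    apply orderOf_eq_prime
    · rw [← QuotientGroup.mk_pow, ← hu, pow_orderOf_eq_one]; rfl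
    · intro h1; exact huN ((QuotientGroup.eq_one_iff u).mp h1)
  have h1 : (x : G ⧸ N) * (u : G ⧸ N) = (u : G ⧸ N) * (x : G ⧸ N) := by
    rw [← QuotientGroup.mk_mul, ← QuotientGroup.mk_mul, hx]
  have h2 := hE (u : G ⧸ N) huo (x : G ⧸ N) h1
  rw [← QuotientGroup.mk_mul] at h2
  exact (QuotientGroup.eq_one_iff _).mp h2

end Cfsg.Agent.H73.AIC

section check
open Subgroup Cfsg.Agent.H26 Cfsg.Agent.H26.AIC
variable {G : Type*} [Group G] [Finite G]
example (N : Subgroup G) [N.Normal] (hodd : Odd (Nat.card N)) {y : G ⧸ N}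
    (hy : orderOf y = 2) : ∃ u : G, orderOf u = 2 ∧ (u : G ⧸ N) = y :=
  Cfsg.Agent.H73.AIC.quot_lift_inv N hodd hy
example (N : Subgroup G) [N.Normal] (hodd : Odd (Nat.card N)) {u x : G}
    (hu : orderOf u = 2) (h : (x : G ⧸ N) * (u : G ⧸ N) = (u : G ⧸ N) * (x : G ⧸ N)) :
    ∃ x' : G, (x' : G ⧸ N) = (x : G ⧸ N) ∧ x' * u = u * x' :=
  Cfsg.Agent.H73.AIC.quot_lift_comm N hodd hu h
example (hH : Hyp G) (N : Subgroup G) [N.Normal] (hodd : Odd (Nat.card N)) : Hyp (G ⧸ N) :=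
  Cfsg.Agent.H73.AIC.quot_hyp hH N hodd
example (N : Subgroup G) [N.Normal] (hodd : Odd (Nat.card N))
    (h : ∀ x u : G, orderOf u = 2 → x * u = u * x → x * x ∈ N) : Exp2 (G ⧸ N) :=
  Cfsg.Agent.H73.AIC.quot_exp2 N hodd h
example (N : Subgroup G) [N.Normal] (hodd : Odd (Nat.card N)) (hE : Exp2 (G ⧸ N))
    {u x : G} (hu : orderOf u = 2) (hx : x * u = u * x) : x * x ∈ N :=
  Cfsg.Agent.H73.AIC.exp2_quot_imp N hodd hE hu hx
end check
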