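import Mathlib

set_option autoImplicit false

namespace Cfsg.Agent.H73

/-- Membership in a conjugate Sylow subgroup. -/
theorem sylow_mem_smul_iff {G : Type*} [Group G] {p : ℕ} (g : G) (P : Sylow p G) (z : G) :
    z ∈ ((g • P : Sylow p G) : Subgroup G) ↔ g⁻¹ * z * g ∈ (P : Subgroup G) := by
  rw [Sylow.smul_def, Sylow.pointwise_smul_def, Subgroup.mem_pointwise_smul_iff_inv_smul_mem]
  simp [MulAut.smul_def]

/-- Elements of a Sylow `p`-subgroup have `p`-power order. -/
theorem sylow_orderOf {G : Type*} [Group G] {p : ℕ} [Fact p.Prime] (T : Sylow p G) (g : G)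
    (hg : g ∈ (T : Subgroup G)) : ∃ k : ℕ, orderOf g = p ^ k := by
  obtain ⟨k, hk⟩ := (IsPGroup.iff_orderOf.mp T.isPGroup') ⟨g, hg⟩
  exact ⟨k, by rwa [Subgroup.orderOf_mk] at hk⟩

/-- An element of `p`-power order lies in some Sylow `p`-subgroup. -/
theorem exists_sylow_mem {G : Type*} [Group G] [Finite G] {p : ℕ} [Fact p.Prime] (g : G) (k : ℕ)
    (hk : orderOf g = p ^ k) : ∃ T : Sylow p G, g ∈ (T : Subgroup G) := by
  have hpg : IsPGroup p (Subgroup.zpowers g) :=
    IsPGroup.of_card (n := k) (by rw [Nat.card_zpowers, hk])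
  obtain ⟨Q, hQ⟩ := hpg.exists_le_sylow
  exact ⟨Q, hQ (Subgroup.mem_zpowers g)⟩

/-- A central element of `p`-power order lies in every Sylow `p`-subgroup. -/
theorem central_mem_sylow {G : Type*} [Group G] [Finite G] {p : ℕ} [Fact p.Prime] (g : G) (k : ℕ)
    (hk : orderOf g = p ^ k) (hc : g ∈ Subgroup.center G) (T : Sylow p G) :
    g ∈ (T : Subgroup G) := by
  obtain ⟨T', hT'⟩ := exists_sylow_mem g k hk
  obtain ⟨c, hc'⟩ := MulAction.exists_smul_eq G T' T
  rw [← hc', sylow_mem_smul_iff]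
  have : c⁻¹ * g * c = g := by
    rw [mul_assoc, ← (Subgroup.mem_center_iff.mp hc c)]; group
  rw [this]; exact hT'

/-- All Sylow `p`-subgroups have the same cardinality. -/
theorem sylow_card_eq {G : Type*} [Group G] [Finite G] {p : ℕ} [Fact p.Prime] (P Q : Sylow p G) :
    Nat.card (P : Subgroup G) = Nat.card (Q : Subgroup G) := by
  rw [Sylow.card_eq_multiplicity, Sylow.card_eq_multiplicity]

end Cfsg.Agent.H73
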