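import Mathlib
import Cfsg.Prelude.Def_KGroupFacts
import Cfsg.Agent.H73.Syl
/-!
S2071 team project (helper33), piece C3-RIGID: the abstract rigidity argument
(`Out G = 1` from a Sylow subgroup of prime order with small centraliser and three generators).
-/
set_option autoImplicit false

namespace Cfsg.Agent.H73.C3

theorem pow_eq_of_mod {G : Type*} [Group G] {x : G} {p : ℕ} (hx : orderOf x = p) {a b : ℕ}
    (h : a % p = b % p) : x ^ a = x ^ b := by
  rw [← pow_mod_orderOf x a, ← pow_mod_orderOf x b, hx, h]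

theorem exists_pow_lt_of_mem_zpowers {G : Type*} [Group G] [Finite G] {x y : G} {p : ℕ}
    (hx : orderOf x = p) (hp : 0 < p) (h : y ∈ Subgroup.zpowers x) :
    ∃ j : ℕ, j < p ∧ y = x ^ j := by
  rw [← mem_powers_iff_mem_zpowers] at h
  obtain ⟨n, hn⟩ := (Submonoid.mem_powers_iff _ _).mp h
  refine ⟨n % p, Nat.mod_lt _ hp, ?_⟩
  rw [← hn, ← hx, pow_mod_orderOf]

theorem conj_pow_eq {G : Type*} [Group G] {x z : G} {k : ℕ} (hz : z * x * z⁻¹ = x ^ k) (m : ℕ) :
    z ^ m * x * (z ^ m)⁻¹ = x ^ (k ^ m) := by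
  induction m with
  | zero => simp
  | succ m ih =>
    have e : z ^ (m + 1) * x * (z ^ (m + 1))⁻¹ = z * (z ^ m * x * (z ^ m)⁻¹) * z⁻¹ := by
      rw [pow_succ', mul_inv_rev]
      simp only [mul_assoc]
    rw [e, ih, ← conj_pow, hz, ← pow_mul, ← pow_succ']

/-- If `p² ∤ |G|`, two elements of order `p` are conjugate up to a power. -/
theorem exists_conj_mem_zpowers_of_sq_not_dvd {G : Type*} [Group G] [Finite G] {p : ℕ}
    (hp : p.Prime) (hp2 : ¬ p ^ 2 ∣ Nat.card G) (x y : G) (hx : orderOf x = p)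
    (hy : orderOf y = p) : ∃ c : G, c * y * c⁻¹ ∈ Subgroup.zpowers x := by
  have : Fact p.Prime := ⟨hp⟩
  have key : ∀ w : G, orderOf w = p → ∀ P : Sylow p G, Subgroup.zpowers w ≤ (P : Subgroup G) →
      Subgroup.zpowers w = (P : Subgroup G) := by
    intro w hw P hle
    have hcard : Nat.card (P : Subgroup G) = p ^ (Nat.card G).factorization p :=
      Sylow.card_eq_multiplicity P
    have hf : (Nat.card G).factorization p ≤ 1 := by
      by_contra hcon
      have h2 : 2 ≤ (Nat.card G).factorization p := by omega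
      exact hp2 ((Nat.pow_dvd_pow p h2).trans (Nat.ordProj_dvd _ _))
    have hle' : Nat.card (P : Subgroup G) ≤ p := by
      rw [hcard]
      calc p ^ (Nat.card G).factorization p ≤ p ^ 1 := Nat.pow_le_pow_right hp.pos hf
        _ = p := pow_one p
    apply Subgroup.eq_of_le_of_card_ge hle
    rw [Nat.card_zpowers, hw]
    exact hle'
  have hxp : IsPGroup p (Subgroup.zpowers x) :=
    IsPGroup.of_card (n := 1) (by rw [Nat.card_zpowers, hx, pow_one])
  have hyp : IsPGroup p (Subgroup.zpowers y) :=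
    IsPGroup.of_card (n := 1) (by rw [Nat.card_zpowers, hy, pow_one])
  obtain ⟨P, hP⟩ := hxp.exists_le_sylow
  obtain ⟨Q, hQ⟩ := hyp.exists_le_sylow
  obtain ⟨c, hc⟩ := MulAction.exists_smul_eq G Q P
  refine ⟨c, ?_⟩
  rw [key x hx P hP, ← hc, Cfsg.Agent.H73.sylow_mem_smul_iff]
  have e : c⁻¹ * (c * y * c⁻¹) * c = y := by group
  rw [e]
  exact hQ (Subgroup.mem_zpowers y)

/-- C3-RIGID, with named hypotheses. -/
theorem rigid_core {G : Type} [Group G] [Finite G] (x z t : G) (p k : ℕ)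
    (hp : p.Prime) (hx : orderOf x = p) (hp2 : ¬ p ^ 2 ∣ Nat.card G)
    (hC : ∀ s : G, s * x = x * s → s ∈ Subgroup.zpowers x)
    (hz : z * x * z⁻¹ = x ^ k) (hk : ¬ k % p = 1)
    (hj : ∀ j : ℕ, 0 < j → j < p → ∃ m : ℕ, (j * k ^ m) % p = 1 ∨ (j * k ^ m) % p = p - 1)
    (ht1 : t ≠ 1) (ht2 : t ^ 2 = 1) (htz : t * z = z * t)
    (hinv : ∀ s : G, s * z = z * s → s ^ 2 = 1 → s = 1 ∨ s = t)
    (hgen : Subgroup.closure ({x, z, t} : Set G) = ⊤)
    (hno : ¬ ∃ β : G ≃* G, β x = x⁻¹ ∧ β z = z ∧ β t = t) :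
    Nat.card (Cfsg.Out G) = 1 := by
  have hp1 : 1 < p := hp.one_lt
  have hx1 : x ≠ 1 := by
    intro h
    rw [h, orderOf_one] at hx
    omega
  have hxp : x ^ p = 1 := by rw [← hx]; exact pow_orderOf_eq_one x
  -- an automorphism fixing `z` and mapping `x` to `x ^ (±1)` is trivial
  have hA : ∀ (β : MulAut G) (j : ℕ), β x = x ^ j → (j % p = 1 ∨ j % p = p - 1) → β z = z →
      β = 1 := by
    intro β j hβx hjp hβz
    have hβt : β t = t := by
      have h1 : β t * z = z * β t := by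
        calc β t * z = β t * β z := by rw [hβz]
          _ = β (t * z) := (map_mul β t z).symm
          _ = β (z * t) := by rw [htz]
          _ = β z * β t := map_mul β z t
          _ = z * β t := by rw [hβz]
      have h2 : β t ^ 2 = 1 := by rw [← map_pow, ht2, map_one]
      rcases hinv _ h1 h2 with h | h
      · exfalso
        apply ht1
        apply β.injective
        rw [h, map_one]
      · exact h
    rcases hjp with h | h
    · have hβx' : β x = x := by
        rw [hβx, pow_eq_of_mod hx (b := 1) (by rw [h, Nat.mod_eq_of_lt hp1]), pow_one]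
      have hid : (β : G ≃* G).toMonoidHom = MonoidHom.id G := by
        apply MonoidHom.eq_of_eqOn_dense hgen
        intro g hg
        simp only [Set.mem_insert_iff, Set.mem_singleton_iff] at hg
        rcases hg with rfl | rfl | rfl
        · exact hβx'
        · exact hβz
        · exact hβt
      ext g
      exact DFunLike.congr_fun hid g
    · exfalso
      apply hno
      refine ⟨β, ?_, hβz, hβt⟩
      rw [hβx, pow_eq_of_mod hx (b := p - 1) (by rw [h, Nat.mod_eq_of_lt (by omega)])]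
      rw [eq_inv_iff_mul_eq_one, ← pow_succ, Nat.sub_add_cancel hp.pos, hxp]
  have hmem : ∀ (c : G) (β : MulAut G), MulAut.conj c * β ∈ Cfsg.Inn G → β ∈ Cfsg.Inn G := by
    intro c β h
    have hc : MulAut.conj c ∈ Cfsg.Inn G := ⟨c, rfl⟩
    have h' := (Cfsg.Inn G).mul_mem ((Cfsg.Inn G).inv_mem hc) h
    rwa [inv_mul_cancel_left] at h'
  -- an automorphism fixing `z` and normalising `⟨x⟩` is inner
  have hB : ∀ (β : MulAut G) (j : ℕ), 0 < j → j < p → β x = x ^ j → β z = z →
      β ∈ Cfsg.Inn G := by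
    intro β j hj0 hjp hβx hβz
    obtain ⟨m, hm⟩ := hj j hj0 hjp
    apply hmem (z ^ m)
    have h1 : MulAut.conj (z ^ m) * β = 1 := by
      refine hA _ (j * k ^ m) ?_ hm ?_
      · rw [MulAut.mul_apply, MulAut.conj_apply, hβx, ← conj_pow, conj_pow_eq hz m, ← pow_mul,
          mul_comm]
      · rw [MulAut.mul_apply, MulAut.conj_apply, hβz, (Commute.pow_self z m).eq,
          mul_inv_cancel_right]
    rw [h1]
    exact (Cfsg.Inn G).one_mem
  -- an automorphism normalising `⟨x⟩` is inner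
  have hCC : ∀ (β : MulAut G) (j : ℕ), 0 < j → j < p → β x = x ^ j → β ∈ Cfsg.Inn G := by
    intro β j hj0 hjp hβx
    have hcop : Nat.Coprime j p :=
      Nat.Coprime.symm ((Nat.Prime.coprime_iff_not_dvd hp).mpr (Nat.not_dvd_of_pos_of_lt hj0 hjp))
    obtain ⟨j', -, hj'⟩ := Nat.exists_mul_mod_eq_one_of_coprime hcop hp1
    have hxj : (x ^ j) ^ j' = x := by
      rw [← pow_mul, pow_eq_of_mod hx (b := 1) (by rw [hj', Nat.mod_eq_of_lt hp1]), pow_one]
    have hw : β z * x ^ j * (β z)⁻¹ = (x ^ j) ^ k := by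
      calc β z * x ^ j * (β z)⁻¹ = β (z * x * z⁻¹) := by rw [map_mul, map_mul, map_inv, hβx]
        _ = (x ^ j) ^ k := by rw [hz, map_pow, hβx]
    have hw2 : β z * x * (β z)⁻¹ = x ^ k := by
      calc β z * x * (β z)⁻¹ = β z * (x ^ j) ^ j' * (β z)⁻¹ := by rw [hxj]
        _ = (β z * x ^ j * (β z)⁻¹) ^ j' := (conj_pow).symm
        _ = ((x ^ j) ^ k) ^ j' := by rw [hw]
        _ = ((x ^ j) ^ j') ^ k := pow_right_comm (x ^ j) k j'
        _ = x ^ k := by rw [hxj]
    have hs : (z⁻¹ * β z) * x = x * (z⁻¹ * β z) := by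
      have e1 : β z * x = x ^ k * β z := by
        rw [← hw2, inv_mul_cancel_right]
      have e2 : z⁻¹ * x ^ k = x * z⁻¹ := by
        rw [← hz, mul_assoc, inv_mul_cancel_left]
      calc (z⁻¹ * β z) * x = z⁻¹ * (β z * x) := mul_assoc _ _ _
        _ = z⁻¹ * (x ^ k * β z) := by rw [e1]
        _ = (z⁻¹ * x ^ k) * β z := (mul_assoc _ _ _).symm
        _ = x * z⁻¹ * β z := by rw [e2]
        _ = x * (z⁻¹ * β z) := mul_assoc _ _ _
    obtain ⟨i, -, hi⟩ := exists_pow_lt_of_mem_zpowers hx hp.pos (hC _ hs)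
    have hβz : β z = z * x ^ i := by
      rw [← hi, mul_inv_cancel_left]
    have : Fact p.Prime := ⟨hp⟩
    have hk1 : (k : ZMod p) - 1 ≠ 0 := by
      intro h
      apply hk
      have h' : (k : ZMod p) = ((1 : ℕ) : ZMod p) := by
        rw [Nat.cast_one]
        exact sub_eq_zero.mp h
      have h'' := (ZMod.natCast_eq_natCast_iff' k 1 p).mp h'
      rw [h'', Nat.mod_eq_of_lt hp1]
    obtain ⟨n, hn⟩ : ∃ n : ℕ, x ^ (k * n) = x ^ (n + i) := by
      refine ⟨((i : ZMod p) * ((k : ZMod p) - 1)⁻¹).val, ?_⟩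
      apply pow_eq_of_mod hx
      rw [← ZMod.natCast_eq_natCast_iff']
      push_cast
      rw [ZMod.natCast_zmod_val]
      field_simp
      ring
    apply hmem (x ^ (k * n))
    refine hB _ j hj0 hjp ?_ ?_
    · rw [MulAut.mul_apply, MulAut.conj_apply, hβx, ← pow_add, add_comm, pow_add,
        mul_inv_cancel_right]
    · rw [MulAut.mul_apply, MulAut.conj_apply, hβz]
      have e3 : x ^ (k * n) * z = z * x ^ n := by
        have e4 : z * x ^ n * z⁻¹ = x ^ (k * n) := by rw [← conj_pow, hz, ← pow_mul]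
        rw [← e4, inv_mul_cancel_right]
      calc x ^ (k * n) * (z * x ^ i) * (x ^ (k * n))⁻¹
          = (x ^ (k * n) * z) * x ^ i * (x ^ (k * n))⁻¹ := by rw [mul_assoc (x ^ (k * n)) z]
        _ = z * (x ^ n * x ^ i) * (x ^ (k * n))⁻¹ := by rw [e3, mul_assoc z]
        _ = z * x ^ (n + i) * (x ^ (k * n))⁻¹ := by rw [← pow_add]
        _ = z := by rw [← hn, mul_inv_cancel_right]
  have hD : ∀ α : MulAut G, α ∈ Cfsg.Inn G := by
    intro α
    have hy : orderOf (α x) = p := by rw [MulEquiv.orderOf_eq, hx]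
    obtain ⟨c, hc⟩ := exists_conj_mem_zpowers_of_sq_not_dvd hp hp2 x (α x) hx hy
    obtain ⟨j, hjp, hj'⟩ := exists_pow_lt_of_mem_zpowers hx hp.pos hc
    apply hmem c
    have hj0 : 0 < j := by
      rcases Nat.eq_zero_or_pos j with h | h
      · exfalso
        rw [h, pow_zero] at hj'
        have h1 : α x = 1 := conj_eq_one_iff.mp hj'
        exact hx1 (α.injective (by rw [h1, map_one]))
      · exact h
    exact hCC _ j hj0 hjp (by rw [MulAut.mul_apply, MulAut.conj_apply]; exact hj')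
  show (Cfsg.Inn G).index = 1
  rw [Subgroup.index_eq_one, eq_top_iff]
  intro α _
  exact hD α

end Cfsg.Agent.H73.C3
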