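import Cfsg.Agent.H33.C3.Defs
import Cfsg.Agent.H73.C3RigidCore
/-!
S2071 team project (helper33), piece C3-RIGID: `rigid : StRigid` (the proof is in
`Cfsg.Agent.H73.C3RigidCore`, which imports Mathlib and `Def_KGroupFacts` only).
-/
set_option autoImplicit false

namespace Cfsg.Agent.H73.C3

/-- C3-RIGID -/
theorem rigid : Cfsg.Agent.H33.C3.StRigid := by
  intro G _ _ x z t p k hp hx hp2 hC hz hk hj ht1 ht2 htz hinv hgen hno
  exact rigid_core x z t p k hp hx hp2 hC hz hk hj ht1 ht2 htz hinv hgen hno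

example : Cfsg.Agent.H33.C3.StRigid := rigid

end Cfsg.Agent.H73.C3
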