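import Mathlib
import Cfsg.Agent.H7.RTDefs

/-!
# S2359 piece RT-DCARD (helper73): `|D_t| = q + 1`
-/

set_option autoImplicit false

namespace Cfsg.Agent.H73.RT

open Cfsg Cfsg.Lie Cfsg.Agent.H22 Cfsg.Agent.H22.GEx Cfsg.Agent.H22.Ree Cfsg.Agent.H45.R2
  Cfsg.Agent.H7.RC Cfsg.Agent.H7.RT Matrix

universe u

/-- Fibre counting: if `f a = f b ↔ a⁻¹ * b ∈ S` then `|H| = |range f| · |S|`. -/
lemma card_eq_range_mul_card {H : Type*} {β : Type*} [Group H] [Finite H] (S : Subgroup H)
    (f : H → β) (hf : ∀ a b, f a = f b ↔ a⁻¹ * b ∈ S) :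
    Nat.card H = Nat.card (Set.range f) * Nat.card S := by
  have e : H ⧸ S ≃ Set.range f :=
    Equiv.ofBijective
      (Quotient.lift (fun a => (⟨f a, a, rfl⟩ : Set.range f))
        (fun a b hab => Subtype.ext ((hf a b).mpr (QuotientGroup.leftRel_apply.mp hab))))
      ⟨by
        intro x y
        induction x using Quotient.inductionOn
        induction y using Quotient.inductionOn
        intro h
        apply Quotient.sound
        exact QuotientGroup.leftRel_apply.mpr ((hf _ _).mp (congrArg Subtype.val h)),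
       by
        rintro ⟨_, a, rfl⟩
        exact ⟨Quotient.mk _ a, rfl⟩⟩
  rw [← Nat.card_congr e, Subgroup.card_eq_card_quotient_mul_card_subgroup]

variable {K : Type u} [Field K] [Fintype K] [CharP K 3] {m : ℕ}

theorem dCard (C : Ctx K (3 ^ m)) (hK : Fintype.card K = 3 ^ (2 * m + 1))
    (hc : CommStmt (K := K)) (hmem : MemStmt C) (_hac : ACommStmt C) (hk : KerStmt C)
    (hdm : StDMem C hc hmem) (hT : StSL2Tor.{u}) : StDCard C hc hmem := by
  intro t ht hodd hdvd
  classical
  have hoddK : Odd (Fintype.card K) := by rw [hK]; exact Odd.pow (by decide)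
  obtain ⟨-, hcard⟩ := hT K hoddK t ht hodd (by rw [hK]; exact hdvd)
  rw [hK] at hcard
  have hfin : Finite ↥(Subgroup.centralizer ({t} : Set (SpecialLinearGroup (Fin 2) K))) :=
    Nat.finite_of_card_ne_zero (by rw [hcard]; omega)
  -- fibres of `ψ` on `C(t)`
  have hfib : ∀ x y : ↥(Subgroup.centralizer ({t} : Set (SpecialLinearGroup (Fin 2) K))),
      psiG C hc hmem (x : SpecialLinearGroup (Fin 2) K) =
        psiG C hc hmem (y : SpecialLinearGroup (Fin 2) K) ↔
      x⁻¹ * y ∈ ((psiG C hc hmem).ker).subgroupOf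
        (Subgroup.centralizer ({t} : Set (SpecialLinearGroup (Fin 2) K))) := by
    intro x y
    rw [Subgroup.mem_subgroupOf, MonoidHom.mem_ker]
    push_cast
    rw [map_mul, map_inv, inv_mul_eq_one]
  have h1 := card_eq_range_mul_card _ _ hfib
  have hneg_mem : (-1 : SpecialLinearGroup (Fin 2) K) ∈
      Subgroup.centralizer ({t} : Set (SpecialLinearGroup (Fin 2) K)) := by
    rw [Subgroup.mem_centralizer_iff]
    intro x hx
    rw [Set.mem_singleton_iff] at hx
    subst hx
    simp
  have hneg : (-1 : SpecialLinearGroup (Fin 2) K) ≠ 1 := by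
    intro h
    have h1 := congrArg (fun s : SpecialLinearGroup (Fin 2) K => (s : Matrix (Fin 2) (Fin 2) K) 0 0) h
    simp at h1
    have h2 : (2 : K) = 0 := by linear_combination -h1
    have h3 : ((2 : ℕ) : K) = 0 := by exact_mod_cast h2
    rw [CharP.cast_eq_zero_iff K 3] at h3
    omega
  have hS : Nat.card (((psiG C hc hmem).ker).subgroupOf
      (Subgroup.centralizer ({t} : Set (SpecialLinearGroup (Fin 2) K)))) = 2 := by
    have hset : ((((psiG C hc hmem).ker).subgroupOf
        (Subgroup.centralizer ({t} : Set (SpecialLinearGroup (Fin 2) K))) :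
          Subgroup ↥(Subgroup.centralizer ({t} : Set (SpecialLinearGroup (Fin 2) K)))) :
        Set ↥(Subgroup.centralizer ({t} : Set (SpecialLinearGroup (Fin 2) K)))) =
        {1, ⟨-1, hneg_mem⟩} := by
      ext x
      simp only [SetLike.mem_coe, Subgroup.mem_subgroupOf, MonoidHom.mem_ker,
        Set.mem_insert_iff, Set.mem_singleton_iff]
      constructor
      · intro h
        rcases psiG_eq_one C hc hmem hk _ h with h' | h'
        · left; exact Subtype.ext h'
        · right; exact Subtype.ext h'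
      · rintro (rfl | rfl)
        · simp
        · exact psiG_neg_one C hc hmem hk
    have h2 : Nat.card (((psiG C hc hmem).ker).subgroupOf
        (Subgroup.centralizer ({t} : Set (SpecialLinearGroup (Fin 2) K)))) =
        ((((psiG C hc hmem).ker).subgroupOf
          (Subgroup.centralizer ({t} : Set (SpecialLinearGroup (Fin 2) K))) :
            Subgroup ↥(Subgroup.centralizer ({t} : Set (SpecialLinearGroup (Fin 2) K)))) :
          Set ↥(Subgroup.centralizer ({t} : Set (SpecialLinearGroup (Fin 2) K)))).ncard :=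
      Nat.card_coe_set_eq _
    rw [h2, hset, Set.ncard_pair]
    intro h
    exact hneg (congrArg Subtype.val h).symm
  -- `D_t` as a set
  have hD : ((DSub C hc hmem t : Subgroup ↥(twistedG2 K (3 ^ m))) : Set ↥(twistedG2 K (3 ^ m))) =
      Set.range (fun x : ↥(Subgroup.centralizer ({t} : Set (SpecialLinearGroup (Fin 2) K))) =>
        psiG C hc hmem (x : SpecialLinearGroup (Fin 2) K)) ∪
      (fun y => aEl C * y) ''
        Set.range (fun x : ↥(Subgroup.centralizer ({t} : Set (SpecialLinearGroup (Fin 2) K))) =>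
          psiG C hc hmem (x : SpecialLinearGroup (Fin 2) K)) := by
    ext y
    rw [SetLike.mem_coe, hdm t y]
    constructor
    · rintro ⟨s, hs, h | h⟩
      · left; exact ⟨⟨s, hs⟩, h.symm⟩
      · right; exact ⟨psiG C hc hmem s, ⟨⟨s, hs⟩, rfl⟩, h.symm⟩
    · rintro (⟨s, rfl⟩ | ⟨_, ⟨s, rfl⟩, rfl⟩)
      · exact ⟨s, s.2, Or.inl rfl⟩
      · exact ⟨s, s.2, Or.inr rfl⟩
  have hdisj : Disjoint
      (Set.range (fun x : ↥(Subgroup.centralizer ({t} : Set (SpecialLinearGroup (Fin 2) K))) =>
        psiG C hc hmem (x : SpecialLinearGroup (Fin 2) K)))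
      ((fun y => aEl C * y) ''
        Set.range (fun x : ↥(Subgroup.centralizer ({t} : Set (SpecialLinearGroup (Fin 2) K))) =>
          psiG C hc hmem (x : SpecialLinearGroup (Fin 2) K))) := by
    rw [Set.disjoint_left]
    rintro _ ⟨s, rfl⟩ ⟨_, ⟨s', rfl⟩, h⟩
    have h' : aEl C * psiG C hc hmem (s' : SpecialLinearGroup (Fin 2) K) =
        psiG C hc hmem (s : SpecialLinearGroup (Fin 2) K) := h
    apply psiG_ne_aEl C hc hmem hk ((s : SpecialLinearGroup (Fin 2) K) *
      (s' : SpecialLinearGroup (Fin 2) K)⁻¹)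
    rw [map_mul, map_inv, ← h', mul_inv_cancel_right]
  have h3 : Nat.card ↥(DSub C hc hmem t) =
      ((DSub C hc hmem t : Subgroup ↥(twistedG2 K (3 ^ m))) : Set ↥(twistedG2 K (3 ^ m))).ncard :=
    Nat.card_coe_set_eq _
  rw [h3, hD, Set.ncard_union_eq hdisj (Set.finite_range _) ((Set.finite_range _).image _),
    Set.ncard_image_of_injective _ (mul_right_injective (aEl C)), ← Nat.card_coe_set_eq]
  rw [h1, hS] at hcard
  omega

example (C : Ctx K (3 ^ m)) (hK : Fintype.card K = 3 ^ (2 * m + 1))
    (hc : CommStmt (K := K)) (hmem : MemStmt C) (hac : ACommStmt C) (hk : KerStmt C)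
    (hdm : StDMem C hc hmem) (hT : StSL2Tor.{u}) : StDCard C hc hmem :=
  dCard C hK hc hmem hac hk hdm hT

end Cfsg.Agent.H73.RT

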