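import Mathlib
import Cfsg.Agent.H7.RTDefs

/-!
# S2359 piece RT-DV (helper73): `D_t` contains a four-group through `a`
-/

set_option autoImplicit false

namespace Cfsg.Agent.H73.RT

open Cfsg Cfsg.Lie Cfsg.Agent.H22 Cfsg.Agent.H22.GEx Cfsg.Agent.H22.Ree Cfsg.Agent.H45.R2
  Cfsg.Agent.H7.RC Cfsg.Agent.H7.RT Matrix

universe u

/-- The four-group `{1, a, b, ab}` generated by two commuting involutions. -/
def fourGroup {G : Type*} [Group G] (a b : G) (haa : a * a = 1) (hbb : b * b = 1)
    (hab : a * b = b * a) : Subgroup G where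
  carrier := {x | x = 1 ∨ x = a ∨ x = b ∨ x = a * b}
  one_mem' := Or.inl rfl
  mul_mem' := by
    have hba : b * a = a * b := hab.symm
    have haa' : ∀ x, a * (a * x) = x := fun x => by rw [← mul_assoc, haa, one_mul]
    have hbb' : ∀ x, b * (b * x) = x := fun x => by rw [← mul_assoc, hbb, one_mul]
    have hba' : ∀ x, b * (a * x) = a * (b * x) := fun x => by
      rw [← mul_assoc, hba, mul_assoc]
    rintro x y (rfl | rfl | rfl | rfl) (rfl | rfl | rfl | rfl) <;>
      simp [mul_assoc, haa, hbb, hba, haa', hba']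
  inv_mem' := by
    have hai : a⁻¹ = a := inv_eq_of_mul_eq_one_left haa
    have hbi : b⁻¹ = b := inv_eq_of_mul_eq_one_left hbb
    rintro x (rfl | rfl | rfl | rfl)
    · simp
    · right; left; exact hai
    · right; right; left; exact hbi
    · right; right; right
      rw [_root_.mul_inv_rev, hai, hbi, hab]

theorem mem_fourGroup {G : Type*} [Group G] {a b : G} {haa : a * a = 1} {hbb : b * b = 1}
    {hab : a * b = b * a} {x : G} :
    x ∈ fourGroup a b haa hbb hab ↔ x = 1 ∨ x = a ∨ x = b ∨ x = a * b := Iff.rfl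

theorem card_fourGroup {G : Type*} [Group G] {a b : G} (haa : a * a = 1) (hbb : b * b = 1)
    (hab : a * b = b * a) (ha : a ≠ 1) (hb : b ≠ 1) (hne : a ≠ b) :
    Nat.card (fourGroup a b haa hbb hab) = 4 := by
  classical
  have hset : ((fourGroup a b haa hbb hab : Subgroup G) : Set G) = {1, a, b, a * b} := by
    ext x
    simp [mem_fourGroup]
  have h1 : Nat.card (fourGroup a b haa hbb hab) =
      ((fourGroup a b haa hbb hab : Subgroup G) : Set G).ncard := (Nat.card_coe_set_eq _)
  rw [h1, hset]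
  have hab1 : a * b ≠ 1 := by
    intro h
    apply hne
    have : a = b⁻¹ := eq_inv_of_mul_eq_one_left h
    rw [this]; exact inv_eq_of_mul_eq_one_left hbb
  have haba : a * b ≠ a := fun h => hb (mul_eq_left.mp h)
  have habb : a * b ≠ b := fun h => ha (mul_eq_right.mp h)
  rw [Set.ncard_insert_of_notMem, Set.ncard_insert_of_notMem, Set.ncard_insert_of_notMem,
    Set.ncard_singleton]
  · simp only [Set.mem_singleton_iff]; exact fun h => habb h.symm
  · simp only [Set.mem_insert_iff, Set.mem_singleton_iff, not_or]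
    exact ⟨hne, fun h => haba h.symm⟩
  · simp only [Set.mem_insert_iff, Set.mem_singleton_iff, not_or]
    exact ⟨fun h => ha h.symm, fun h => hb h.symm, fun h => hab1 h.symm⟩

variable {K : Type u} [Field K] [Fintype K] [CharP K 3] {m : ℕ}

theorem dV (C : Ctx K (3 ^ m)) (hK : Fintype.card K = 3 ^ (2 * m + 1))
    (hc : CommStmt (K := K)) (hmem : MemStmt C) (hac : ACommStmt C) (hk : KerStmt C)
    (hdm : StDMem C hc hmem) (hI : StSL2I.{u}) : StDV C hc hmem := by
  intro t ht hodd hdvd
  have hoddK : Odd (Fintype.card K) := by rw [hK]; exact Odd.pow (by decide)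
  have h4 : 4 ∣ Fintype.card K + 1 := by
    rw [hK]
    have := q_mod8 m
    omega
  obtain ⟨i, hi, hii⟩ := hI K hoddK h4 t ht hodd (by rw [hK]; exact hdvd)
  have hneg : (-1 : SpecialLinearGroup (Fin 2) K) ≠ 1 := by
    intro h
    have h1 := congrArg (fun s : SpecialLinearGroup (Fin 2) K => (s : Matrix (Fin 2) (Fin 2) K) 0 0) h
    simp at h1
    have h2 : (2 : K) = 0 := by linear_combination -h1
    have h3 : ((2 : ℕ) : K) = 0 := by exact_mod_cast h2
    rw [CharP.cast_eq_zero_iff K 3] at h3
    omega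
  have haa := aEl_mul_self C
  have hbb : psiG C hc hmem i * psiG C hc hmem i = 1 := by
    rw [← map_mul, hii, psiG_neg_one C hc hmem hk]
  have hab := aEl_comm C hc hmem hac i
  have hb1 : psiG C hc hmem i ≠ 1 := by
    intro h
    rcases psiG_eq_one C hc hmem hk i h with h' | h'
    · rw [h', one_mul] at hii; exact hneg hii.symm
    · rw [h'] at hii
      have : (-1 : SpecialLinearGroup (Fin 2) K) * (-1) = 1 := by simp
      rw [this] at hii; exact hneg hii.symm
  have hne : aEl C ≠ psiG C hc hmem i := fun h => psiG_ne_aEl C hc hmem hk i h.symm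
  refine ⟨fourGroup (aEl C) (psiG C hc hmem i) haa hbb hab, ?_, ?_, ?_, ?_⟩
  · intro x hx
    rw [hdm t x]
    rcases mem_fourGroup.mp hx with rfl | rfl | rfl | rfl
    · exact ⟨1, one_mem _, Or.inl (map_one _).symm⟩
    · exact ⟨1, one_mem _, Or.inr (by rw [map_one, mul_one])⟩
    · exact ⟨i, hi, Or.inl rfl⟩
    · exact ⟨i, hi, Or.inr rfl⟩
  · exact card_fourGroup haa hbb hab (aEl_ne_one C) hb1 hne
  · intro v hv
    rcases mem_fourGroup.mp hv with rfl | rfl | rfl | rfl
    · simp
    · exact haa
    · exact hbb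
    · calc aEl C * psiG C hc hmem i * (aEl C * psiG C hc hmem i)
          = aEl C * (psiG C hc hmem i * aEl C) * psiG C hc hmem i := by group
        _ = aEl C * (aEl C * psiG C hc hmem i) * psiG C hc hmem i := by rw [hab]
        _ = (aEl C * aEl C) * (psiG C hc hmem i * psiG C hc hmem i) := by group
        _ = 1 := by rw [haa, hbb, one_mul]
  · exact mem_fourGroup.mpr (Or.inr (Or.inl rfl))

example (C : Ctx K (3 ^ m)) (hK : Fintype.card K = 3 ^ (2 * m + 1))
    (hc : CommStmt (K := K)) (hmem : MemStmt C) (hac : ACommStmt C) (hk : KerStmt C)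
    (hdm : StDMem C hc hmem) (hI : StSL2I.{u}) : StDV C hc hmem :=
  dV C hK hc hmem hac hk hdm hI

end Cfsg.Agent.H73.RT

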