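import Mathlib
import Cfsg.Agent.H45.S8Defs0

/-!
# S1158 piece S8-PART (helper73): splitting off the elements conjugate into `C(y)`
-/

set_option autoImplicit false

namespace Cfsg.Agent.H73.S8

open Cfsg.Agent.H45.S8

universe u

/-- In a finite cyclic group the elements with `x ^ s = 1` are the powers of any element of
order `s`. -/
lemma exists_pow_eq_of_cyclic {P : Type*} [Group P] [Finite P] [IsCyclic P] {s : ℕ}
    (hs : 0 < s) {t x : P} (ht : orderOf t = s) (hx : x ^ s = 1) : ∃ i : ℕ, t ^ i = x := by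
  classical
  have : Fintype P := Fintype.ofFinite P
  have h1 : (Finset.univ.filter (fun a : P => a ^ s = 1)).card ≤ s :=
    IsCyclic.card_pow_eq_one_le hs
  have hsub : (Finset.range s).image (fun i => t ^ i) ⊆
      Finset.univ.filter (fun a : P => a ^ s = 1) := by
    intro a ha
    obtain ⟨i, -, rfl⟩ := Finset.mem_image.mp ha
    rw [Finset.mem_filter]
    refine ⟨Finset.mem_univ _, ?_⟩
    rw [← pow_mul, mul_comm, pow_mul, ← ht, pow_orderOf_eq_one, one_pow]
  have hcard : ((Finset.range s).image (fun i => t ^ i)).card = s := by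
    rw [Finset.card_image_of_injOn, Finset.card_range]
    intro i hi j hj hij
    rw [Finset.coe_range, Set.mem_Iio] at hi hj
    exact pow_injOn_Iio_orderOf (by rw [Set.mem_Iio, ht]; exact hi)
      (by rw [Set.mem_Iio, ht]; exact hj) hij
  have heq := Finset.eq_of_subset_of_card_le hsub (by rw [hcard]; exact h1)
  have hxS : x ∈ Finset.univ.filter (fun a : P => a ^ s = 1) := by simp [hx]
  rw [← heq] at hxS
  obtain ⟨i, -, hi⟩ := Finset.mem_image.mp hxS
  exact ⟨i, hi⟩

/-- Membership in a conjugate Sylow subgroup. -/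
lemma mem_smul_sylow_iff' {G : Type u} [Group G] {p : ℕ} (g : G) (P : Sylow p G) (x : G) :
    x ∈ ((g • P : Sylow p G) : Subgroup G) ↔ g⁻¹ * x * g ∈ (P : Subgroup G) := by
  rw [Sylow.smul_def, Sylow.pointwise_smul_def, Subgroup.mem_pointwise_smul_iff_inv_smul_mem]
  simp [MulAut.smul_def]

/-- If the Sylow `s`-subgroups are cyclic, two elements of order `s` are conjugate up to a
power. -/
lemma exists_conj_mem_zpowers {G : Type u} [Group G] [Finite G] (s : ℕ) [Fact s.Prime]
    (hcyc : ∀ P : Sylow s G, IsCyclic ↥(P : Subgroup G)) (z t : G) (hz : orderOf z = s)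
    (ht : orderOf t = s) : ∃ c : G, c * z * c⁻¹ ∈ Subgroup.zpowers t := by
  have hs : s.Prime := Fact.out
  have hzp : IsPGroup s (Subgroup.zpowers z) :=
    IsPGroup.of_card (n := 1) (by rw [Nat.card_zpowers, hz, pow_one])
  have htp : IsPGroup s (Subgroup.zpowers t) :=
    IsPGroup.of_card (n := 1) (by rw [Nat.card_zpowers, ht, pow_one])
  obtain ⟨Q, hQ⟩ := hzp.exists_le_sylow
  obtain ⟨P, hP⟩ := htp.exists_le_sylow
  obtain ⟨c, hc⟩ := MulAction.exists_smul_eq G Q P
  refine ⟨c, ?_⟩
  have hzP : c * z * c⁻¹ ∈ (P : Subgroup G) := by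
    rw [← hc, mem_smul_sylow_iff']
    have : c⁻¹ * (c * z * c⁻¹) * c = z := by group
    rw [this]
    exact hQ (Subgroup.mem_zpowers z)
  have htP : t ∈ (P : Subgroup G) := hP (Subgroup.mem_zpowers t)
  have := hcyc P
  have h1 : orderOf (⟨t, htP⟩ : (P : Subgroup G)) = s := by rw [Subgroup.orderOf_mk, ht]
  have hzs : z ^ s = 1 := by
    have := pow_orderOf_eq_one z
    rwa [hz] at this
  have h2 : (⟨c * z * c⁻¹, hzP⟩ : (P : Subgroup G)) ^ s = 1 := by
    apply Subtype.ext
    rw [Subgroup.coe_pow, Subgroup.coe_mk, conj_pow, hzs]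
    simp
  obtain ⟨i, hi⟩ := exists_pow_eq_of_cyclic hs.pos h1 h2
  have hi' : t ^ i = c * z * c⁻¹ := by simpa using congrArg Subtype.val hi
  rw [← hi']
  exact Subgroup.pow_mem _ (Subgroup.mem_zpowers t) i

theorem part : StPart.{u} := by
  intro G _ _ M hAb hDvd hSyl hTI1 hTI4 hMG y hy hyM M' hM' haM'
  classical
  have hSelf : SelfC (Subgroup.centralizer ({y} : Set G)) := hTI1 G M hAb hDvd y hy hyM
  have hcop : (Nat.card ↥(Subgroup.centralizer ({y} : Set G))).Coprime
      (Nat.card G / Nat.card ↥(Subgroup.centralizer ({y} : Set G))) :=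
    hTI4 G M hAb hDvd hSyl hTI1 y hy hyM
  have haG : Nat.card ↥(Subgroup.centralizer ({y} : Set G)) ∣ Nat.card G :=
    Subgroup.card_subgroup_dvd_card _
  have hapos : 0 < Nat.card ↥(Subgroup.centralizer ({y} : Set G)) := Nat.card_pos
  generalize hA : Subgroup.centralizer ({y} : Set G) = A at hSelf hcop haG hapos haM'
  generalize ha : Nat.card ↥A = a at hcop haG hapos haM'
  -- `a` is coprime to `M' / a`
  have hcop' : a.Coprime (M' / a) := by
    apply Nat.Coprime.coprime_dvd_right _ hcop
    obtain ⟨u, hu⟩ := haM'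
    obtain ⟨w, hw⟩ := hM'.trans hMG
    rw [hw, hu, Nat.mul_div_cancel_left _ hapos, mul_assoc, Nat.mul_div_cancel_left _ hapos]
    exact Dvd.intro _ rfl
  -- elements conjugate into `A` have order dividing `a`
  have hF1 : ∀ g ∈ ConjSet A 1, g ≠ 1 ∧ g ^ a = 1 := by
    rintro g ⟨hg1, c, hc⟩
    refine ⟨fun h => hg1 (by rw [h, one_pow]), ?_⟩
    have h1 : (c * g * c⁻¹) ^ a = 1 := by
      have := pow_card_eq_one' (G := A) (x := ⟨c * g * c⁻¹, hc⟩)
      rw [ha] at this
      simpa using congrArg Subtype.val this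
    rw [conj_pow] at h1
    have h2 : g ^ a = c⁻¹ * (c * g ^ a * c⁻¹) * c := by group
    rw [h2, h1]; group
  have hunion : TorSet G M' = ConjSet A 1 ∪ TorSet G (M' / a) := by
    ext t
    constructor
    · rintro ⟨ht1, htM⟩
      by_cases hta : t ^ (M' / a) = 1
      · right; exact ⟨ht1, hta⟩
      · left
        have hn : orderOf t ∣ M' := orderOf_dvd_of_pow_eq_one htM
        have hn0 : orderOf t ≠ 0 := (orderOf_pos t).ne'
        have hncop : ¬ (orderOf t).Coprime a := by
          intro hc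
          apply hta
          apply orderOf_dvd_iff_pow_eq_one.mp
          have h3 : orderOf t ∣ a * (M' / a) := by rw [Nat.mul_div_cancel' haM']; exact hn
          exact hc.dvd_of_dvd_mul_left h3
        obtain ⟨s, hs, hsn, hsa⟩ := Nat.Prime.not_coprime_iff_dvd.mp hncop
        have : Fact s.Prime := ⟨hs⟩
        have ht' : orderOf (t ^ (orderOf t / s)) = s := orderOf_pow_orderOf_div hn0 hsn
        obtain ⟨z, hz⟩ := exists_prime_orderOf_dvd_card' s (by rw [ha]; exact hsa : s ∣ Nat.card A)
        have hz' : orderOf (z : G) = s := by rw [Subgroup.orderOf_coe]; exact hz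
        have hsM : s ∣ M := (hsa.trans haM').trans hM'
        obtain ⟨c, hc⟩ := exists_conj_mem_zpowers s (fun P => hSyl s hsM P) (z : G)
          (t ^ (orderOf t / s)) hz' ht'
        -- `t` commutes with `c z c⁻¹`
        obtain ⟨j, hj⟩ := Subgroup.mem_zpowers_iff.mp hc
        have hcomm : t * (c * (z : G) * c⁻¹) = (c * (z : G) * c⁻¹) * t := by
          rw [← hj]
          exact (((Commute.refl t).pow_right _).zpow_right j).eq
        have hz1 : (z : G) ≠ 1 := by
          intro h
          rw [h, orderOf_one] at hz'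
          exact hs.one_lt.ne hz'
        have hCz : Subgroup.centralizer ({(z : G)} : Set G) = A := hSelf (z : G) z.2 hz1
        have hmem : c⁻¹ * t * c ∈ A := by
          rw [← hCz, Subgroup.mem_centralizer_iff]
          intro w hw
          rw [Set.mem_singleton_iff] at hw
          subst hw
          calc (z : G) * (c⁻¹ * t * c) = c⁻¹ * ((c * (z : G) * c⁻¹) * t) * c := by group
            _ = c⁻¹ * (t * (c * (z : G) * c⁻¹)) * c := by rw [hcomm]
            _ = c⁻¹ * t * c * (z : G) := by group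
        refine ⟨by rwa [pow_one], c⁻¹, ?_⟩
        rw [inv_inv]; exact hmem
    · rintro (hg | ⟨ht1, hta⟩)
      · obtain ⟨hg1, hga⟩ := hF1 t hg
        refine ⟨hg1, ?_⟩
        obtain ⟨u, hu⟩ := haM'
        rw [hu, pow_mul, hga, one_pow]
      · refine ⟨ht1, ?_⟩
        have : M' = (M' / a) * a := (Nat.div_mul_cancel haM').symm
        rw [this, pow_mul, hta, one_pow]
  have hdisj : Disjoint (ConjSet A 1) (TorSet G (M' / a)) := by
    rw [Set.disjoint_left]
    rintro g hg ⟨-, hga⟩
    obtain ⟨hg1, hga'⟩ := hF1 g hg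
    apply hg1
    have h1 : orderOf g ∣ Nat.gcd a (M' / a) :=
      Nat.dvd_gcd (orderOf_dvd_of_pow_eq_one hga') (orderOf_dvd_of_pow_eq_one hga)
    rw [hcop'.gcd_eq_one] at h1
    exact orderOf_eq_one_iff.mp (Nat.dvd_one.mp h1)
  rw [hunion, Set.ncard_union_eq hdisj (Set.toFinite _) (Set.toFinite _)]

example : StPart.{u} := part

end Cfsg.Agent.H73.S8

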