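import Mathlib
import Cfsg.Agent.H45.S8Defs0
import Cfsg.Agent.H73.S8Part

/-!
# S1158 piece S8-PSLD (helper73)

A simple group `L` of order `q(q²-1)/2`, `q = 4k - 1`, `k` odd, with a maximal subgroup `H`
dihedral of order `4k`: the subgroup `D` of order `k` of the rotation group of `H` has
`|N_L(D)| = 4k`, and all cyclic subgroups of order `k` of `L` are conjugate to `D`.
-/

set_option autoImplicit false

namespace Cfsg.Agent.H73.S8

open Cfsg.Agent.H45.S8

universe u

theorem pslD : StPslD.{u} := by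
  intro L _ _ k hkodd hk1 hsimple hcard H hH ⟨e⟩
  classical
  have hk0 : k ≠ 0 := by omega
  have : NeZero (2 * k) := ⟨by omega⟩
  -- the rotation
  have hρHord : orderOf (e.symm (DihedralGroup.r 1)) = 2 * k := by
    rw [MulEquiv.orderOf_eq, DihedralGroup.orderOf_r_one]
  generalize hρH : e.symm (DihedralGroup.r 1) = ρH at hρHord
  have hρord : orderOf (ρH : L) = 2 * k := by rw [Subgroup.orderOf_coe, hρHord]
  have hρmem : (ρH : L) ∈ H := ρH.2
  generalize hρ : (ρH : L) = ρ at hρord hρmem
  -- (K): every element of `H` is a rotation or inverts the rotations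
  have hK : ∀ h ∈ H, h ∈ Subgroup.zpowers ρ ∨ h * ρ * h⁻¹ = ρ⁻¹ := by
    intro h hh
    rcases hcase : e ⟨h, hh⟩ with i | i
    · left
      have h1 : (⟨h, hh⟩ : ↥H) = ρH ^ i.val := by
        apply e.injective
        rw [map_pow, ← hρH, MulEquiv.apply_symm_apply, hcase, DihedralGroup.r_one_pow,
          ZMod.natCast_zmod_val]
      have h2 : h = ρ ^ i.val := by
        have := congrArg Subtype.val h1
        rw [← hρ]
        simpa using this
      rw [h2]
      exact Subgroup.pow_mem _ (Subgroup.mem_zpowers ρ) _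
    · right
      have h1 : (⟨h, hh⟩ : ↥H) * ρH * (⟨h, hh⟩ : ↥H)⁻¹ = ρH⁻¹ := by
        apply e.injective
        rw [map_mul, map_mul, map_inv, map_inv, ← hρH, MulEquiv.apply_symm_apply, hcase]
        show DihedralGroup.sr i * DihedralGroup.r 1 * DihedralGroup.sr i = DihedralGroup.r (-1)
        rw [DihedralGroup.sr_mul_r, DihedralGroup.sr_mul_sr]
        congr 1
        ring
      have := congrArg Subtype.val h1
      rw [← hρ]
      simpa using this
  -- (N): `H` normalizes every subgroup of the rotation group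
  have hN : ∀ j : ℕ,
      H ≤ Subgroup.normalizer ((Subgroup.zpowers (ρ ^ j) : Subgroup L) : Set L) := by
    intro j h hh
    have key : h * ρ ^ j * h⁻¹ ∈ Subgroup.zpowers (ρ ^ j) := by
      rcases hK h hh with hR | hinv
      · obtain ⟨l, rfl⟩ := Subgroup.mem_zpowers_iff.mp hR
        have hc : Commute (ρ ^ l) (ρ ^ j) := ((Commute.refl ρ).pow_right j).zpow_left l
        rw [hc.eq, mul_inv_cancel_right]
        exact Subgroup.mem_zpowers _
      · rw [← conj_pow, hinv, inv_pow]
        exact inv_mem (Subgroup.mem_zpowers _)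
    apply Subgroup.mem_normalizer_fintype
    intro x hx
    obtain ⟨i, rfl⟩ := Subgroup.mem_zpowers_iff.mp hx
    rw [← conj_zpow]
    exact zpow_mem key i
  have hNeq : ∀ j : ℕ, Subgroup.zpowers (ρ ^ j) ≠ ⊥ →
      Subgroup.normalizer ((Subgroup.zpowers (ρ ^ j) : Subgroup L) : Set L) = H := by
    intro j hne
    by_contra hcon
    have hlt : H < Subgroup.normalizer ((Subgroup.zpowers (ρ ^ j) : Subgroup L) : Set L) :=
      lt_of_le_of_ne (hN j) (Ne.symm hcon)
    have htop := hH.2 _ hlt
    have hnorm : (Subgroup.zpowers (ρ ^ j)).Normal := Subgroup.normalizer_eq_top_iff.mp htop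
    rcases hsimple.eq_bot_or_eq_top_of_normal _ hnorm with h | h
    · exact hne h
    · apply hH.1
      rw [eq_top_iff, ← h, Subgroup.zpowers_le]
      exact pow_mem hρmem j
  -- orders
  have hHcard : Nat.card H = 4 * k := by
    rw [Nat.card_congr e.toEquiv, DihedralGroup.nat_card]; ring
  obtain ⟨B, hB⟩ : ∃ B, 2 * k = B + 1 := ⟨2 * k - 1, by omega⟩
  have hLcard : Nat.card L = (2 * B + 1) * B * (4 * k) := by
    have h1 : 4 * k - 1 = 2 * B + 1 := by omega
    have h2 : (2 * B + 1) ^ 2 - 1 = 2 * B * (2 * B + 2) := by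
      have : (2 * B + 1) ^ 2 = 2 * B * (2 * B + 2) + 1 := by ring
      omega
    rw [h1, h2] at hcard
    have h3 : 2 * B + 2 = 4 * k := by omega
    rw [h3] at hcard
    have : 2 * Nat.card L = 2 * ((2 * B + 1) * B * (4 * k)) := by rw [hcard]; ring
    omega
  -- a prime divisor of `k`
  obtain ⟨p, hp, hpk⟩ := Nat.exists_prime_and_dvd (by omega : k ≠ 1)
  have : Fact p.Prime := ⟨hp⟩
  have hp2 : p ≠ 2 := by
    rintro rfl
    exact (Nat.not_even_iff_odd.mpr hkodd) (even_iff_two_dvd.mpr hpk)
  have ha1 : 1 ≤ k.factorization p := hp.factorization_pos_of_dvd hk0 hpk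
  have hpak : p ^ k.factorization p ∣ k := Nat.ordProj_dvd k p
  have hvL : (Nat.card L).factorization p = k.factorization p := by
    have hB0 : B ≠ 0 := by omega
    have hn1 : ¬ p ∣ 2 * B + 1 := by
      intro h
      have h4 : p ∣ (2 * B + 1) + 1 := by
        have : (2 * B + 1) + 1 = 4 * k := by omega
        rw [this]; exact hpk.mul_left 4
      have := (Nat.dvd_add_right h).mp h4
      exact hp.one_lt.ne' (Nat.dvd_one.mp this)
    have hn2 : ¬ p ∣ B := by
      intro h
      have h4 : p ∣ B + 1 := by rw [← hB]; exact hpk.mul_left 2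
      have := (Nat.dvd_add_right h).mp h4
      exact hp.one_lt.ne' (Nat.dvd_one.mp this)
    have hn3 : ¬ p ∣ 4 := by
      intro h
      have h4 : p ∣ 2 ^ 2 := by norm_num; exact h
      have := hp.dvd_of_dvd_pow h4
      exact hp2 ((Nat.prime_dvd_prime_iff_eq hp Nat.prime_two).mp this)
    rw [hLcard, Nat.factorization_mul (by positivity) (by positivity),
      Nat.factorization_mul (by omega) hB0, Nat.factorization_mul (by norm_num) hk0]
    simp only [Finsupp.add_apply]
    rw [Nat.factorization_eq_zero_of_not_dvd hn1, Nat.factorization_eq_zero_of_not_dvd hn2,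
      Nat.factorization_eq_zero_of_not_dvd hn3]
    ring
  generalize ha : k.factorization p = a at ha1 hpak hvL
  have hpa1 : 1 < p ^ a := Nat.one_lt_pow (by omega) hp.one_lt
  -- the Sylow `p`-subgroup of the rotation group
  have hπord : orderOf (ρ ^ (2 * k / p ^ a)) = p ^ a := by
    have := orderOf_pow_orderOf_div (x := ρ) (n := p ^ a) (by rw [hρord]; omega)
      (by rw [hρord]; exact hpak.mul_left 2)
    rwa [hρord] at this
  have hPcard : Nat.card (Subgroup.zpowers (ρ ^ (2 * k / p ^ a))) =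
      p ^ (Nat.card L).factorization p := by
    rw [Nat.card_zpowers, hπord, hvL]
  have hP1 : Subgroup.zpowers (ρ ^ (2 * k / p ^ a)) ≠ ⊥ := by
    intro h
    have := Nat.card_zpowers (ρ ^ (2 * k / p ^ a))
    rw [h, Subgroup.card_bot, hπord] at this
    exact hpa1.ne this
  -- `C_L(P)` is contained in the rotation group
  have hCP : Subgroup.centralizer
      ((Subgroup.zpowers (ρ ^ (2 * k / p ^ a)) : Subgroup L) : Set L) ≤ Subgroup.zpowers ρ := by
    intro x hx
    have hxH : x ∈ H := by
      rw [← hNeq _ hP1]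
      exact Subgroup.centralizer_le_normalizer _ hx
    rcases hK x hxH with hR | hinv
    · exact hR
    · exfalso
      have hcomm : ρ ^ (2 * k / p ^ a) * x = x * ρ ^ (2 * k / p ^ a) :=
        Subgroup.mem_centralizer_iff.mp hx (ρ ^ (2 * k / p ^ a)) (Subgroup.mem_zpowers _)
      have h1 : x * ρ ^ (2 * k / p ^ a) * x⁻¹ = (ρ ^ (2 * k / p ^ a))⁻¹ := by
        rw [← conj_pow, hinv, inv_pow]
      have h2 : x * ρ ^ (2 * k / p ^ a) * x⁻¹ = ρ ^ (2 * k / p ^ a) := by
        rw [← hcomm, mul_inv_cancel_right]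
      have h3 : (ρ ^ (2 * k / p ^ a)) ^ 2 = 1 := by
        have h4 : ρ ^ (2 * k / p ^ a) = (ρ ^ (2 * k / p ^ a))⁻¹ := h2.symm.trans h1
        rw [pow_two]
        exact mul_eq_one_iff_eq_inv.mpr h4
      have h4 : p ^ a ∣ 2 := by rw [← hπord]; exact orderOf_dvd_of_pow_eq_one h3
      have h5 : p ∣ 2 := (dvd_pow_self p (by omega : a ≠ 0)).trans h4
      exact hp2 ((Nat.prime_dvd_prime_iff_eq hp Nat.prime_two).mp h5)
  -- the subgroup `D`
  have hδord : orderOf (ρ ^ 2) = k := by
    have := orderOf_pow_orderOf_div (x := ρ) (n := k) (by rw [hρord]; omega)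
      (by rw [hρord]; exact Dvd.intro_left 2 rfl)
    rwa [hρord, Nat.mul_div_cancel _ (by omega : 0 < k)] at this
  have hD1 : Subgroup.zpowers (ρ ^ 2) ≠ ⊥ := by
    intro h
    have := Nat.card_zpowers (ρ ^ 2)
    rw [h, Subgroup.card_bot, hδord] at this
    omega
  refine ⟨Subgroup.zpowers (ρ ^ 2), inferInstance, by rw [Nat.card_zpowers, hδord], ?_, ?_⟩
  · rw [hNeq 2 hD1, hHcard]
  · intro D' hD'cyc hD'card
    obtain ⟨g, hg⟩ := IsCyclic.exists_generator (α := ↥D')
    have hgord : orderOf (g : L) = k := by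
      rw [Subgroup.orderOf_coe, orderOf_eq_card_of_forall_mem_zpowers hg, hD'card]
    have hπ'ord : orderOf ((g : L) ^ (k / p ^ a)) = p ^ a := by
      have := orderOf_pow_orderOf_div (x := (g : L)) (n := p ^ a) (by rw [hgord]; omega)
        (by rw [hgord]; exact hpak)
      rwa [hgord] at this
    have hP'card : Nat.card (Subgroup.zpowers ((g : L) ^ (k / p ^ a))) =
        p ^ (Nat.card L).factorization p := by
      rw [Nat.card_zpowers, hπ'ord, hvL]
    obtain ⟨c, hc⟩ := MulAction.exists_smul_eq L (Sylow.ofCard _ hPcard)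
      (Sylow.ofCard _ hP'card)
    refine ⟨c, ?_⟩
    have hD'pow : ∀ w ∈ D', ∃ i : ℤ, (g : L) ^ i = w := by
      intro w hw
      obtain ⟨i, hi⟩ := Subgroup.mem_zpowers_iff.mp (hg ⟨w, hw⟩)
      exact ⟨i, by simpa using congrArg Subtype.val hi⟩
    have hsub : D' ≤ (Subgroup.zpowers (ρ ^ 2)).map (MulAut.conj c).toMonoidHom := by
      intro w hw
      have hcent : c⁻¹ * w * c ∈ Subgroup.centralizer
          ((Subgroup.zpowers (ρ ^ (2 * k / p ^ a)) : Subgroup L) : Set L) := by
        rw [Subgroup.mem_centralizer_iff]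
        intro y hy
        have hy' : c * y * c⁻¹ ∈ ((Sylow.ofCard _ hP'card : Sylow p L) : Subgroup L) := by
          rw [← hc, mem_smul_sylow_iff']
          have : c⁻¹ * (c * y * c⁻¹) * c = y := by group
          rw [this, Sylow.coe_ofCard]; exact hy
        rw [Sylow.coe_ofCard] at hy'
        obtain ⟨l, hl⟩ := Subgroup.mem_zpowers_iff.mp hy'
        obtain ⟨i, hi⟩ := hD'pow w hw
        have hcomm : w * (c * y * c⁻¹) = (c * y * c⁻¹) * w := by
          rw [← hl, ← hi]
          exact ((((Commute.refl (g : L)).pow_right _).zpow_right l).zpow_left i).eq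
        calc y * (c⁻¹ * w * c) = c⁻¹ * ((c * y * c⁻¹) * w) * c := by group
          _ = c⁻¹ * (w * (c * y * c⁻¹)) * c := by rw [hcomm]
          _ = (c⁻¹ * w * c) * y := by group
      have hR : c⁻¹ * w * c ∈ Subgroup.zpowers ρ := hCP hcent
      have hwk : w ^ k = 1 := by
        have := pow_card_eq_one' (G := ↥D') (x := ⟨w, hw⟩)
        rw [hD'card] at this
        simpa using congrArg Subtype.val this
      have h1 : orderOf (⟨ρ ^ 2, pow_mem (Subgroup.mem_zpowers ρ) 2⟩ : Subgroup.zpowers ρ) = k := by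
        rw [Subgroup.orderOf_mk, hδord]
      have h2 : (⟨c⁻¹ * w * c, hR⟩ : Subgroup.zpowers ρ) ^ k = 1 := by
        apply Subtype.ext
        have h3 : (c⁻¹ * w * c) ^ k = c⁻¹ * w ^ k * c := by
          have := conj_pow (a := c⁻¹) (b := w) (i := k)
          simpa using this
        rw [Subgroup.coe_pow, Subgroup.coe_mk, h3, hwk]
        simp
      obtain ⟨i, hi⟩ := exists_pow_eq_of_cyclic (by omega : 0 < k) h1 h2
      have hi' : (ρ ^ 2) ^ i = c⁻¹ * w * c := by simpa using congrArg Subtype.val hi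
      refine Subgroup.mem_map.mpr ⟨c⁻¹ * w * c, ?_, ?_⟩
      · rw [← hi']; exact Subgroup.pow_mem _ (Subgroup.mem_zpowers _) i
      · show c * (c⁻¹ * w * c) * c⁻¹ = w
        group
    apply Subgroup.eq_of_le_of_card_ge hsub
    rw [Subgroup.card_map_of_injective (MulAut.conj c).injective, Nat.card_zpowers, hδord,
      hD'card]

example : StPslD.{u} := pslD

end Cfsg.Agent.H73.S8

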