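import Cfsg.Agent.H50.AmDefs

/-!
S2262 team project (helper50), piece AM-ALG: an invertible matrix whose characteristic polynomial
has its coefficients in a subfield with `q₀` elements has a scalar power `h ^ N` with
`(q₀ - 1) N ≤ q₀ ^ d - 1`.

Proof: `W := {Σ_{i<d} j(c_i) h^i}` has at most `q₀^d` elements and, by Cayley–Hamilton, contains
all `j(c) h^m`; for `N` the least `m ≥ 1` with `h^m ∈ j(F₀ˣ)·1` the elements `j(c) h^m`
(`c ≠ 0`, `m < N`) are distinct and nonzero.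
-/

set_option autoImplicit false

universe u

namespace Cfsg.Agent.H73.Am

open Matrix Polynomial Cfsg.Agent.H50.Am

section
variable {F : Type u} [Field F] {F₀ : Type u} [Field F₀] (j : F₀ →+* F) {d : ℕ}
  (h : Matrix (Fin d) (Fin d) F)

/-- The `j(F₀)`-span of `1, h, …, h^(d-1)`. -/
def InW (x : Matrix (Fin d) (Fin d) F) : Prop :=
  ∃ c : Fin d → F₀, x = ∑ i : Fin d, j (c i) • h ^ (i : ℕ)

variable {j h}

theorem inW_zero : InW j h 0 := ⟨0, by simp⟩

theorem inW_add {x y : Matrix (Fin d) (Fin d) F} (hx : InW j h x) (hy : InW j h y) :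
    InW j h (x + y) := by
  obtain ⟨c, rfl⟩ := hx
  obtain ⟨c', rfl⟩ := hy
  refine ⟨c + c', ?_⟩
  rw [← Finset.sum_add_distrib]
  refine Finset.sum_congr rfl (fun i _ => ?_)
  rw [Pi.add_apply, map_add, add_smul]

theorem inW_smul (a : F₀) {x : Matrix (Fin d) (Fin d) F} (hx : InW j h x) :
    InW j h (j a • x) := by
  obtain ⟨c, rfl⟩ := hx
  refine ⟨fun i => a * c i, ?_⟩
  rw [Finset.smul_sum]
  refine Finset.sum_congr rfl (fun i _ => ?_)
  rw [map_mul, smul_smul]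

theorem inW_sum {κ : Type} (s : Finset κ) (f : κ → Matrix (Fin d) (Fin d) F)
    (hf : ∀ i ∈ s, InW j h (f i)) : InW j h (∑ i ∈ s, f i) :=
  Finset.sum_induction f (InW j h) (fun _ _ => inW_add) inW_zero hf

theorem inW_pow_lt (i : ℕ) (hi : i < d) : InW j h (h ^ i) := by
  refine ⟨Pi.single ⟨i, hi⟩ 1, ?_⟩
  rw [Finset.sum_eq_single (⟨i, hi⟩ : Fin d)]
  · simp
  · intro k _ hk
    rw [Pi.single_eq_of_ne hk, map_zero, zero_smul]
  · intro hcon
    exact absurd (Finset.mem_univ _) hcon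

theorem inW_pow_d (hcoef : ∀ i : ℕ, h.charpoly.coeff i ∈ Set.range j) : InW j h (h ^ d) := by
  have hCH : aeval h h.charpoly = 0 := Matrix.aeval_self_charpoly h
  have hdeg : h.charpoly.natDegree = d := by
    rw [Matrix.charpoly_natDegree_eq_dim, Fintype.card_fin]
  rw [Polynomial.aeval_eq_sum_range, hdeg, Finset.sum_range_succ] at hCH
  have hlead : h.charpoly.coeff d = 1 := by
    have := (Matrix.charpoly_monic h).coeff_natDegree
    rwa [hdeg] at this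
  rw [hlead, one_smul] at hCH
  have e : h ^ d = -∑ i ∈ Finset.range d, h.charpoly.coeff i • h ^ i :=
    eq_neg_of_add_eq_zero_right hCH
  rw [e, ← Finset.sum_neg_distrib]
  apply inW_sum
  intro i hi
  obtain ⟨b, hb⟩ := hcoef i
  rw [← hb, ← neg_smul, ← map_neg]
  exact inW_smul (-b) (inW_pow_lt i (Finset.mem_range.mp hi))

theorem inW_mul_left (hcoef : ∀ i : ℕ, h.charpoly.coeff i ∈ Set.range j)
    {x : Matrix (Fin d) (Fin d) F} (hx : InW j h x) : InW j h (h * x) := by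
  obtain ⟨c, rfl⟩ := hx
  rw [Finset.mul_sum]
  apply inW_sum
  intro i _
  rw [Matrix.mul_smul, ← pow_succ']
  apply inW_smul
  by_cases hi : (i : ℕ) + 1 < d
  · exact inW_pow_lt _ hi
  · have : (i : ℕ) + 1 = d := by have := i.2; omega
    rw [this]
    exact inW_pow_d hcoef

theorem inW_pow (hd : 1 ≤ d) (hcoef : ∀ i : ℕ, h.charpoly.coeff i ∈ Set.range j) (m : ℕ) :
    InW j h (h ^ m) := by
  induction m with
  | zero => exact inW_pow_lt 0 hd
  | succ m ih =>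
    rw [pow_succ']
    exact inW_mul_left hcoef ih

end

/-- **AM-ALG.** -/
theorem alg : StAlg.{u} := by
  intro F _ _ F₀ _ _ j d h h' hh' hd hcoef
  classical
  have hh'2 : h' * h = 1 := mul_eq_one_comm.mp hh'
  have hcomm : Commute h' h := by
    show h' * h = h * h'
    rw [hh'2, hh']
  have hpow_inv : ∀ m : ℕ, h' ^ m * h ^ m = 1 := by
    intro m
    rw [← hcomm.mul_pow, hh'2, one_pow]
  have hsmul_inj : ∀ a : F, a • (1 : Matrix (Fin d) (Fin d) F) = 0 → a = 0 := by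
    intro a ha
    have := congrFun (congrFun ha ⟨0, hd⟩) ⟨0, hd⟩
    simpa using this
  obtain ⟨n, hn1, hn⟩ : ∃ n, 1 ≤ n ∧ h ^ n = 1 := by
    obtain ⟨u, hu⟩ : ∃ u : (Matrix (Fin d) (Fin d) F)ˣ, (u : Matrix (Fin d) (Fin d) F) = h :=
      ⟨⟨h, h', hh', hh'2⟩, rfl⟩
    refine ⟨orderOf u, orderOf_pos u, ?_⟩
    have := congrArg Units.val (pow_orderOf_eq_one u)
    rw [Units.val_pow_eq_pow_val, hu] at this
    exact this
  have hex : ∃ m, 1 ≤ m ∧ ∃ c : F₀, c ≠ 0 ∧ h ^ m = j c • (1 : Matrix (Fin d) (Fin d) F) :=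
    ⟨n, hn1, 1, one_ne_zero, by rw [hn, map_one, one_smul]⟩
  obtain ⟨N, hN1, ⟨cN, hcN, hN⟩, hmin⟩ : ∃ N, 1 ≤ N ∧
      (∃ c : F₀, c ≠ 0 ∧ h ^ N = j c • (1 : Matrix (Fin d) (Fin d) F)) ∧
      ∀ m, 1 ≤ m → m < N →
        ¬ ∃ c : F₀, c ≠ 0 ∧ h ^ m = j c • (1 : Matrix (Fin d) (Fin d) F) :=
    ⟨Nat.find hex, (Nat.find_spec hex).1, (Nat.find_spec hex).2,
      fun m hm1 hm hP => Nat.find_min hex hm ⟨hm1, hP⟩⟩
  refine ⟨N, hN1, ?_, j cN, hN⟩
  obtain ⟨W, hWdef⟩ : ∃ W : Finset (Matrix (Fin d) (Fin d) F),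
      W = (Finset.univ : Finset (Fin d → F₀)).image (fun c => ∑ i : Fin d, j (c i) • h ^ (i : ℕ)) :=
    ⟨_, rfl⟩
  have hW : ∀ x, InW j h x → x ∈ W := by
    rintro x ⟨c, rfl⟩
    rw [hWdef]
    exact Finset.mem_image.mpr ⟨c, Finset.mem_univ _, rfl⟩
  have hWcard : W.card ≤ Fintype.card F₀ ^ d := by
    rw [hWdef]
    calc (Finset.image (fun c : Fin d → F₀ => ∑ i : Fin d, j (c i) • h ^ (i : ℕ)) Finset.univ).card
        ≤ (Finset.univ : Finset (Fin d → F₀)).card := Finset.card_image_le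
      _ = Fintype.card F₀ ^ d := by rw [Finset.card_univ, Fintype.card_pi_const]
  have key : ∀ (c c' : F₀ˣ) (m m' : ℕ), m ≤ m' → m' < N →
      j (c : F₀) • h ^ m = j (c' : F₀) • h ^ m' → m = m' ∧ c = c' := by
    intro c c' m m' hmm hm'N heq
    obtain ⟨k, rfl⟩ := Nat.exists_eq_add_of_le hmm
    have h1 : j (c : F₀) • (1 : Matrix (Fin d) (Fin d) F) = j (c' : F₀) • h ^ k := by
      have := congrArg (fun x => h' ^ m * x) heq
      simp only [Matrix.mul_smul, pow_add, ← mul_assoc, hpow_inv m, one_mul] at this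
      exact this
    have hc' : j (c' : F₀) ≠ 0 := (map_ne_zero j).mpr c'.ne_zero
    have h2 : h ^ k = j ((c' : F₀)⁻¹ * (c : F₀)) • (1 : Matrix (Fin d) (Fin d) F) := by
      rw [map_mul, map_inv₀, ← smul_smul, h1, smul_smul, inv_mul_cancel₀ hc', one_smul]
    have hk : k = 0 := by
      by_contra hk0
      exact hmin k (by omega) (by omega)
        ⟨(c' : F₀)⁻¹ * (c : F₀), mul_ne_zero (inv_ne_zero c'.ne_zero) c.ne_zero, h2⟩
    subst hk
    refine ⟨rfl, ?_⟩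
    rw [pow_zero] at h1
    have h3 : (j (c : F₀) - j (c' : F₀)) • (1 : Matrix (Fin d) (Fin d) F) = 0 := by
      rw [sub_smul, h1, sub_self]
    have h4 := hsmul_inj _ h3
    exact Units.ext (j.injective (sub_eq_zero.mp h4))
  obtain ⟨Φ, hΦ⟩ : ∃ Φ : F₀ˣ × Fin N → Matrix (Fin d) (Fin d) F,
      ∀ p, Φ p = j (p.1 : F₀) • h ^ (p.2 : ℕ) := ⟨fun p => j (p.1 : F₀) • h ^ (p.2 : ℕ), fun _ => rfl⟩
  have hΦinj : Function.Injective Φ := by
    rintro ⟨c, m⟩ ⟨c', m'⟩ heq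
    rw [hΦ, hΦ] at heq
    rcases le_total (m : ℕ) (m' : ℕ) with hle | hle
    · obtain ⟨h1, h2⟩ := key c c' m m' hle m'.2 heq
      exact Prod.ext h2 (Fin.ext h1)
    · obtain ⟨h1, h2⟩ := key c' c m' m hle m.2 heq.symm
      exact Prod.ext h2.symm (Fin.ext h1.symm)
  have hΦW : ∀ p, Φ p ∈ W.erase 0 := by
    intro p
    rw [Finset.mem_erase, hΦ]
    refine ⟨?_, hW _ (inW_smul _ (inW_pow hd hcoef _))⟩
    intro h0
    have := congrArg (fun x => h' ^ (p.2 : ℕ) * x) h0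
    simp only [Matrix.mul_smul, hpow_inv, mul_zero] at this
    exact p.1.ne_zero ((map_eq_zero j).mp (hsmul_inj _ this))
  have h0W : (0 : Matrix (Fin d) (Fin d) F) ∈ W := hW 0 inW_zero
  calc (Fintype.card F₀ - 1) * N = Fintype.card (F₀ˣ × Fin N) := by
        rw [Fintype.card_prod, Fintype.card_units, Fintype.card_fin]
    _ = (Finset.univ.image Φ).card := by
        rw [Finset.card_image_of_injective _ hΦinj, Finset.card_univ]
    _ ≤ (W.erase 0).card := Finset.card_le_card (by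
        intro x hx
        obtain ⟨p, -, rfl⟩ := Finset.mem_image.mp hx
        exact hΦW p)
    _ = W.card - 1 := Finset.card_erase_of_mem h0W
    _ ≤ Fintype.card F₀ ^ d - 1 := Nat.sub_le_sub_right hWcard 1

end Cfsg.Agent.H73.Am

example : ∀ (F : Type u) [Field F] [Fintype F] (F₀ : Type u) [Field F₀] [Fintype F₀] (j : F₀ →+* F)
    (d : ℕ) (h h' : Matrix (Fin d) (Fin d) F),
    h * h' = 1 → 1 ≤ d → (∀ i : ℕ, h.charpoly.coeff i ∈ Set.range j) →
    ∃ N : ℕ, 1 ≤ N ∧ (Fintype.card F₀ - 1) * N ≤ Fintype.card F₀ ^ d - 1 ∧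
      ∃ s : F, h ^ N = s • (1 : Matrix (Fin d) (Fin d) F) :=
  Cfsg.Agent.H73.Am.alg

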