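import Mathlib
import Cfsg.Agent.H46.B2F3Defs

set_option autoImplicit false

/-! S2400-F3G: assembling the relations of type B2 for the lifts (field with three elements). -/

namespace Cfsg.Agent.H73.B2F3

open Cfsg.Agent.H46.B2

universe u v w

section

variable {K : Type u} [Field K] {G : Type v} [Group G] {E : Type w} [Group E]

theorem comm_one' {a b : E} (h : a * b = b * a) : b⁻¹ * a⁻¹ * b * a = 1 := by
  rw [mul_assoc, ← h]; group

theorem word_nil (Y : ℕ → K → E) (r s : ℕ) (t u : K) (h : terms r s = []) :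
    word Y r s t u = 1 := by
  simp [word, h]

/-- The relation of a pair (short, long) at 135° from the relation of the reversed pair. -/
theorem sl_core {ρ : E →* G} {x : ℕ → K → G} {h : G} {Y : ℕ → K → E}
    (hSh : Sh ρ x h Y) (hC45 : C45 ρ x Y) (hLg : Lg ρ x Y) (hLS : LS Y)
    (r s p q : ℕ) (C1 C2 : ℤ)
    (hr : r ∈ [1, 2, 5, 6]) (hs : s ∈ [0, 3, 4, 7]) (hp : p ∈ [1, 2, 5, 6]) (hq : q ∈ [0, 3, 4, 7])
    (h1 : terms r s = [(p, -C1, 1, 1), (q, C2, 2, 1)])
    (h2 : terms s r = [(p, C1, 1, 1), (q, C2, 1, 2)]) (h3 : terms p q = []) :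
    ∀ t u : K, (Y s u)⁻¹ * (Y r t)⁻¹ * Y s u * Y r t = word Y r s t u := by
  intro t u
  have hLS' := hLS s hs r hr (by rw [h2]; simp) u t
  have e1 : (Y s u)⁻¹ * (Y r t)⁻¹ * Y s u * Y r t
      = ((Y r t)⁻¹ * (Y s u)⁻¹ * Y r t * Y s u)⁻¹ := by group
  have hw1 : word Y s r u t
      = Y p ((C1 : K) * (-u) ^ 1 * t ^ 1) * Y q ((C2 : K) * (-u) ^ 1 * t ^ 2) := by
    simp only [word, h2, List.map_cons, List.map_nil, List.prod_cons, List.prod_nil, mul_one]
  have hw2 : word Y r s t u
      = Y p (((-C1 : ℤ) : K) * (-t) ^ 1 * u ^ 1) * Y q ((C2 : K) * (-t) ^ 2 * u ^ 1) := by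
    simp only [word, h1, List.map_cons, List.map_nil, List.prod_cons, List.prod_nil, mul_one]
  obtain ⟨-, hpadd, -⟩ := hSh p hp
  obtain ⟨hρq, hqadd⟩ := hLg.1 q hq
  have hp0 : Y p 0 = 1 := by
    have h0 := hpadd 0 0
    rw [add_zero] at h0
    exact mul_eq_left.mp h0.symm
  have hq0 : Y q 0 = 1 := by
    have h0 := hqadd 0 0
    rw [add_zero] at h0
    exact mul_eq_left.mp h0.symm
  have hpinv : ∀ a : K, (Y p a)⁻¹ = Y p (-a) := by
    intro a
    have h0 := hpadd a (-a)
    rw [add_neg_cancel, hp0] at h0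
    exact inv_eq_of_mul_eq_one_right h0.symm
  have hqinv : ∀ a : K, (Y q a)⁻¹ = Y q (-a) := by
    intro a
    have h0 := hqadd a (-a)
    rw [add_neg_cancel, hq0] at h0
    exact inv_eq_of_mul_eq_one_right h0.symm
  have ea : -((C1 : K) * (-u) ^ 1 * t ^ 1) = ((-C1 : ℤ) : K) * (-t) ^ 1 * u ^ 1 := by
    push_cast; ring
  have eb : -((C2 : K) * (-u) ^ 1 * t ^ 2) = (C2 : K) * (-t) ^ 2 * u ^ 1 := by ring
  rw [e1, hLS', hw1, hw2, mul_inv_rev, hqinv, hpinv, ea, eb]
  exact (hC45 p hp q hq h3 (Y q _) _ _ (hρq _)).symm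

end

/-- S2400-F3G. -/
theorem pG : Cfsg.Agent.H46.B2.PG.{u, v, w} := by
  intro K _ G _ E _ ρ x h Y H hSh hC45 hLg hCLL hLS
  have sl14 := sl_core hSh hC45 hLg hLS 1 4 2 0 (-1) 1 (by decide) (by decide) (by decide)
    (by decide) rfl rfl rfl
  have sl17 := sl_core hSh hC45 hLg hLS 1 7 5 3 1 1 (by decide) (by decide) (by decide)
    (by decide) rfl rfl rfl
  have sl23 := sl_core hSh hC45 hLg hLS 2 3 1 0 (-1) (-1) (by decide) (by decide) (by decide)
    (by decide) rfl rfl rfl
  have sl27 := sl_core hSh hC45 hLg hLS 2 7 6 4 (-1) (-1) (by decide) (by decide) (by decide)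
    (by decide) rfl rfl rfl
  have sl50 := sl_core hSh hC45 hLg hLS 5 0 1 3 1 (-1) (by decide) (by decide) (by decide)
    (by decide) rfl rfl rfl
  have sl54 := sl_core hSh hC45 hLg hLS 5 4 6 7 1 (-1) (by decide) (by decide) (by decide)
    (by decide) rfl rfl rfl
  have sl60 := sl_core hSh hC45 hLg hLS 6 0 2 4 (-1) 1 (by decide) (by decide) (by decide)
    (by decide) rfl rfl rfl
  have sl63 := sl_core hSh hC45 hLg hLS 6 3 5 7 1 1 (by decide) (by decide) (by decide)
    (by decide) rfl rfl rfl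
  refine ⟨?_, ?_⟩
  · intro r hr t u
    interval_cases r
    · exact ((hLg.1 0 (by decide)).2 t u).symm
    · exact ((hSh 1 (by decide)).2.1 t u).symm
    · exact ((hSh 2 (by decide)).2.1 t u).symm
    · exact ((hLg.1 3 (by decide)).2 t u).symm
    · exact ((hLg.1 4 (by decide)).2 t u).symm
    · exact ((hSh 5 (by decide)).2.1 t u).symm
    · exact ((hSh 6 (by decide)).2.1 t u).symm
    · exact ((hLg.1 7 (by decide)).2 t u).symm
  · intro r hr s hs hsr hsr' t u
    interval_cases r <;> interval_cases s <;>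
      first
      | exact absurd rfl hsr
      | exact absurd rfl hsr'
      | exact hLg.2 _ (by decide) _ (by decide) hsr hsr' t u
      | exact hLS _ (by decide) _ (by decide) (by decide) t u
      | exact sl14 t u | exact sl17 t u | exact sl23 t u | exact sl27 t u
      | exact sl50 t u | exact sl54 t u | exact sl60 t u | exact sl63 t u
      | (rw [word_nil Y _ _ t u rfl]
         exact comm_one' (hCLL _ (by decide) _ (by decide) hsr hsr' (Y _ u) t u
           ((hLg.1 _ (by decide)).1 u)))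
      | (rw [word_nil Y _ _ t u rfl]
         exact comm_one' (hC45 _ (by decide) _ (by decide) rfl (Y _ t) u t
           ((hLg.1 _ (by decide)).1 t)).symm)
      | (rw [word_nil Y _ _ t u rfl]
         exact comm_one' (hC45 _ (by decide) _ (by decide) rfl (Y _ u) t u
           ((hLg.1 _ (by decide)).1 u)))

example : Cfsg.Agent.H46.B2.PG.{u, v, w} := pG.{u, v, w}

end Cfsg.Agent.H73.B2F3
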