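import Mathlib
import Cfsg.Agent.H79.BrDefs
import Cfsg.Agent.H73.BrKer

/-!
# S4504 piece PERMBOUND (helper73): `|G| = (p+1) p d |Z(G)|` with `d < p`
when `G` has `p + 1` Sylow `p`-subgroups of order `p` and the kernel of the action is central
-/

set_option autoImplicit false

namespace Cfsg.Agent.H73.Br

open Cfsg Cfsg.Agent.H79.Br

universe u

/-- Fibre counting: if `f a = f b ↔ a⁻¹ * b ∈ S` then `|H| = |range f| · |S|`. -/
lemma card_eq_range_mul {H : Type*} {β : Type*} [Group H] [Finite H] (S : Subgroup H)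
    (f : H → β) (hf : ∀ a b, f a = f b ↔ a⁻¹ * b ∈ S) :
    Nat.card H = Nat.card (Set.range f) * Nat.card S := by
  have e : H ⧸ S ≃ Set.range f :=
    Equiv.ofBijective
      (Quotient.lift (fun a => (⟨f a, a, rfl⟩ : Set.range f))
        (fun a b hab => Subtype.ext ((hf a b).mpr (QuotientGroup.leftRel_apply.mp hab))))
      ⟨by
        intro x y
        induction x using Quotient.inductionOn
        induction y using Quotient.inductionOn
        intro h
        apply Quotient.sound
        exact QuotientGroup.leftRel_apply.mpr ((hf _ _).mp (congrArg Subtype.val h)),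
       by
        rintro ⟨_, a, rfl⟩
        exact ⟨Quotient.mk _ a, rfl⟩⟩
  rw [← Nat.card_congr e, Subgroup.card_eq_card_quotient_mul_card_subgroup]

/-- In a subgroup of prime order every element is a power of any non-identity element. -/
lemma mem_zpowers_of_mem_prime {G : Type u} [Group G] {p : ℕ} [Fact p.Prime] {P : Subgroup G}
    (hP : Nat.card P = p) {y w : G} (hy : y ∈ P) (hy1 : y ≠ 1) (hw : w ∈ P) :
    w ∈ Subgroup.zpowers y := by
  have h := mem_zpowers_of_prime_card hP (g := (⟨y, hy⟩ : P)) (g' := ⟨w, hw⟩)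
    (fun h => hy1 (congrArg Subtype.val h))
  obtain ⟨k, hk⟩ := Subgroup.mem_zpowers_iff.mp h
  exact Subgroup.mem_zpowers_iff.mpr ⟨k, by simpa using congrArg Subtype.val hk⟩

theorem permBound : StPermBound.{u} := by
  intro G _ _ p _ P hP hn hZ
  have hp : p.Prime := Fact.out
  classical
  -- a second Sylow subgroup
  have hexQ : ∃ Q : Sylow p G, Q ≠ P := by
    by_contra hcon
    push Not at hcon
    have hss : Subsingleton (Sylow p G) := ⟨fun a b => (hcon a).trans (hcon b).symm⟩
    have h1 : Nat.card (Sylow p G) ≤ 1 := Finite.card_le_one_iff_subsingleton.mpr hss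
    have := hp.pos
    omega
  obtain ⟨Q, hQP⟩ := hexQ
  -- `P ∩ N(Q) = 1`
  have hPQ : ∀ y ∈ (P : Subgroup G), y ∈ Subgroup.normalizer ((Q : Subgroup G) : Set G) →
      y = 1 := by
    intro y hy hyN
    by_contra hy1
    have hPle : (P : Subgroup G) ≤ Subgroup.normalizer ((Q : Subgroup G) : Set G) := by
      intro w hw
      exact (Subgroup.zpowers_le.mpr hyN) (mem_zpowers_of_mem_prime hP hy hy1 hw)
    have hPleQ : (P : Subgroup G) ≤ Q := le_sylow_of_le_normalizer P.2 Q hPle
    exact hQP (Sylow.ext (P.is_maximal' Q.2 hPleQ))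
  -- a generator of `P`
  have hnt : Nontrivial (P : Subgroup G) :=
    Finite.one_lt_card_iff_nontrivial.mp (by rw [hP]; exact hp.one_lt)
  obtain ⟨⟨x₀, hx₀P⟩, hx₀'⟩ := exists_ne (1 : (P : Subgroup G))
  have hx₀ : x₀ ≠ 1 := fun h => hx₀' (Subtype.ext h)
  -- the `p` Sylow subgroups `x • Q`, `x ∈ P`
  have hginj : Function.Injective (fun x : (P : Subgroup G) => (x : G) • Q) := by
    intro x x' h
    have h1 : ((x : G)⁻¹ * (x' : G)) • Q = Q := by
      rw [mul_smul, inv_smul_eq_iff]; exact h.symm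
    have h2 := hPQ _ (mul_mem (inv_mem x.2) x'.2) (Sylow.smul_eq_iff_mem_normalizer.mp h1)
    exact Subtype.ext (inv_mul_eq_one.mp h2)
  have hcompl : ({P}ᶜ : Set (Sylow p G)).ncard = p := by
    rw [Set.ncard_compl, Set.ncard_singleton, hn]; rfl
  have hrange_g : Set.range (fun x : (P : Subgroup G) => (x : G) • Q) = {P}ᶜ := by
    refine Set.eq_of_subset_of_ncard_le ?_ ?_ (Set.toFinite _)
    · rintro _ ⟨x, rfl⟩
      intro h
      rw [Set.mem_singleton_iff] at h
      apply hQP
      have h' : (x : G) • Q = P := h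
      have h1 : Q = (x : G)⁻¹ • P := eq_inv_smul_iff.mpr h'
      have h2 : (x : G)⁻¹ • P = P :=
        Sylow.smul_eq_iff_mem_normalizer.mpr (Subgroup.le_normalizer (inv_mem x.2))
      rw [h1, h2]
    · rw [hcompl, ← Nat.card_coe_set_eq, Nat.card_range_of_injective hginj, hP]
  have hall : ∀ S : Sylow p G, S = P ∨ ∃ x ∈ (P : Subgroup G), S = x • Q := by
    intro S
    by_cases hS : S = P
    · exact Or.inl hS
    · right
      have : S ∈ Set.range (fun x : (P : Subgroup G) => (x : G) • Q) := by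
        rw [hrange_g]; exact hS
      obtain ⟨x, hx⟩ := this
      exact ⟨x, x.2, hx.symm⟩
  -- `|N| = p |N_Q|`
  have hA : Nat.card (Subgroup.normalizer ((P : Subgroup G) : Set G)) =
      p * Nat.card ((Subgroup.normalizer ((P : Subgroup G) : Set G) ⊓
        Subgroup.normalizer ((Q : Subgroup G) : Set G) : Subgroup G)) := by
    have h1 := card_eq_range_mul
      (H := Subgroup.normalizer ((P : Subgroup G) : Set G))
      ((Subgroup.normalizer ((P : Subgroup G) : Set G) ⊓
        Subgroup.normalizer ((Q : Subgroup G) : Set G) : Subgroup G).subgroupOf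
        (Subgroup.normalizer ((P : Subgroup G) : Set G)))
      (fun n => (n : G) • Q) (by
        intro a b
        rw [Subgroup.mem_subgroupOf, Subgroup.mem_inf]
        constructor
        · intro h
          refine ⟨(a⁻¹ * b).2, ?_⟩
          apply Sylow.smul_eq_iff_mem_normalizer.mp
          push_cast
          rw [mul_smul, inv_smul_eq_iff]; exact h.symm
        · rintro ⟨_, h⟩
          have h1 := Sylow.smul_eq_iff_mem_normalizer.mpr h
          push_cast at h1
          rw [mul_smul, inv_smul_eq_iff] at h1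
          exact h1.symm)
    rw [h1, Nat.card_congr (Subgroup.subgroupOfEquivOfLe inf_le_left).toEquiv]
    congr 1
    rw [Nat.card_coe_set_eq]
    apply le_antisymm
    · refine le_trans (Set.ncard_le_ncard (t := ({P}ᶜ : Set (Sylow p G))) ?_ (Set.toFinite _))
        hcompl.le
      rintro _ ⟨n, rfl⟩
      intro h
      rw [Set.mem_singleton_iff] at h
      apply hQP
      have h' : (n : G) • Q = P := h
      have h1 : Q = (n : G)⁻¹ • P := eq_inv_smul_iff.mpr h'
      have h2 : (n : G)⁻¹ • P = P :=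
        Sylow.smul_eq_iff_mem_normalizer.mpr (inv_mem n.2)
      rw [h1, h2]
    · refine le_trans hcompl.symm.le ?_
      rw [← hrange_g]
      refine Set.ncard_le_ncard ?_ (Set.toFinite _)
      rintro _ ⟨x, rfl⟩
      exact ⟨⟨(x : G), Subgroup.le_normalizer x.2⟩, rfl⟩
  -- `|N_Q| = d |Z|`
  have hcentle : Subgroup.center G ≤ (Subgroup.normalizer ((P : Subgroup G) : Set G) ⊓
      Subgroup.normalizer ((Q : Subgroup G) : Set G) : Subgroup G) :=
    le_inf (Subgroup.center_le_normalizer _) (Subgroup.center_le_normalizer _)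
  have hf : ∀ a b : (Subgroup.normalizer ((P : Subgroup G) : Set G) ⊓
      Subgroup.normalizer ((Q : Subgroup G) : Set G) : Subgroup G),
      (a : G) * x₀ * (a : G)⁻¹ = (b : G) * x₀ * (b : G)⁻¹ ↔
        a⁻¹ * b ∈ (Subgroup.center G).subgroupOf _ := by
    intro a b
    rw [Subgroup.mem_subgroupOf]
    push_cast
    constructor
    · intro h
      have hc : ((a : G)⁻¹ * (b : G)) * x₀ = x₀ * ((a : G)⁻¹ * (b : G)) := by
        have h1 : x₀ = (a : G)⁻¹ * ((b : G) * x₀ * (b : G)⁻¹) * (a : G) := by
          rw [← h]; group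
        calc ((a : G)⁻¹ * (b : G)) * x₀
            = ((a : G)⁻¹ * ((b : G) * x₀ * (b : G)⁻¹) * (a : G)) * ((a : G)⁻¹ * (b : G)) := by
              group
          _ = x₀ * ((a : G)⁻¹ * (b : G)) := by rw [← h1]
      have hcN : (a : G)⁻¹ * (b : G) ∈ (Subgroup.normalizer ((P : Subgroup G) : Set G) ⊓
          Subgroup.normalizer ((Q : Subgroup G) : Set G) : Subgroup G) :=
        mul_mem (inv_mem a.2) b.2
      apply hZ
      intro S
      rcases hall S with rfl | ⟨x, hx, rfl⟩
      · exact Sylow.smul_eq_iff_mem_normalizer.mpr (Subgroup.mem_inf.mp hcN).1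
      · have hcQ : ((a : G)⁻¹ * (b : G)) • Q = Q :=
          Sylow.smul_eq_iff_mem_normalizer.mpr (Subgroup.mem_inf.mp hcN).2
        have hxz : x ∈ Subgroup.zpowers x₀ := mem_zpowers_of_mem_prime hP hx₀P hx₀ hx
        obtain ⟨k, rfl⟩ := Subgroup.mem_zpowers_iff.mp hxz
        have hcomm : ((a : G)⁻¹ * (b : G)) * x₀ ^ k = x₀ ^ k * ((a : G)⁻¹ * (b : G)) :=
          ((show Commute ((a : G)⁻¹ * (b : G)) x₀ from hc).zpow_right k).eq
        rw [← mul_smul, hcomm, mul_smul, hcQ]
    · intro h
      have hc := Subgroup.mem_center_iff.mp h x₀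
      have h1 : (b : G) = (a : G) * ((a : G)⁻¹ * (b : G)) := by group
      calc (a : G) * x₀ * (a : G)⁻¹
          = (a : G) * (x₀ * ((a : G)⁻¹ * (b : G))) * ((a : G)⁻¹ * (b : G))⁻¹ * (a : G)⁻¹ := by
            group
        _ = (a : G) * (((a : G)⁻¹ * (b : G)) * x₀) * ((a : G)⁻¹ * (b : G))⁻¹ * (a : G)⁻¹ := by
            rw [hc]
        _ = (b : G) * x₀ * (b : G)⁻¹ := by group
  have hB := card_eq_range_mul _ _ hf
  rw [Nat.card_congr (Subgroup.subgroupOfEquivOfLe hcentle).toEquiv] at hB
  generalize hd : Nat.card (Set.range (fun n : (Subgroup.normalizer ((P : Subgroup G) : Set G) ⊓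
      Subgroup.normalizer ((Q : Subgroup G) : Set G) : Subgroup G) =>
        (n : G) * x₀ * (n : G)⁻¹)) = d at hB
  have hPcard : ((P : Subgroup G) : Set G).ncard = p := by
    rw [← Nat.card_coe_set_eq]; exact hP
  have hdiff : (((P : Subgroup G) : Set G) \ {1}).ncard = p - 1 := by
    rw [Set.ncard_sdiff_singleton_of_mem (one_mem _), hPcard]
  have hsub : Set.range (fun n : (Subgroup.normalizer ((P : Subgroup G) : Set G) ⊓
      Subgroup.normalizer ((Q : Subgroup G) : Set G) : Subgroup G) =>
        (n : G) * x₀ * (n : G)⁻¹) ⊆ ((P : Subgroup G) : Set G) \ {1} := by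
    rintro _ ⟨n, rfl⟩
    refine ⟨?_, ?_⟩
    · exact (Subgroup.mem_normalizer_iff.mp (Subgroup.mem_inf.mp n.2).1 x₀).mp hx₀P
    · intro h
      rw [Set.mem_singleton_iff] at h
      apply hx₀
      have h' : (n : G) * x₀ * (n : G)⁻¹ = 1 := h
      have : x₀ = (n : G)⁻¹ * ((n : G) * x₀ * (n : G)⁻¹) * (n : G) := by group
      rw [this, h']; group
  have hdle : d ≤ p - 1 := by
    rw [← hd, Nat.card_coe_set_eq, ← hdiff]
    exact Set.ncard_le_ncard hsub
  refine ⟨d, ?_, ?_, ?_⟩
  · have h1 : Nat.card (Sylow p G) =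
        (Subgroup.normalizer ((P : Subgroup G) : Set G)).index :=
      Sylow.card_eq_index_normalizer P
    have h2 := Subgroup.card_mul_index (Subgroup.normalizer ((P : Subgroup G) : Set G))
    rw [← h2, ← h1, hn, hA, hB]
    ring
  · have := hp.pos
    omega
  · intro hdp x hx x' hx' hx1 hx'1
    have heq : Set.range (fun n : (Subgroup.normalizer ((P : Subgroup G) : Set G) ⊓
        Subgroup.normalizer ((Q : Subgroup G) : Set G) : Subgroup G) =>
          (n : G) * x₀ * (n : G)⁻¹) = ((P : Subgroup G) : Set G) \ {1} := by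
      refine Set.eq_of_subset_of_ncard_le hsub ?_ (Set.toFinite _)
      rw [hdiff, ← Nat.card_coe_set_eq, hd, hdp]
    have key : ∀ w ∈ (P : Subgroup G), w ≠ 1 → IsConj x₀ w := by
      intro w hw hw1
      have : w ∈ Set.range (fun n : (Subgroup.normalizer ((P : Subgroup G) : Set G) ⊓
          Subgroup.normalizer ((Q : Subgroup G) : Set G) : Subgroup G) =>
            (n : G) * x₀ * (n : G)⁻¹) := by
        rw [heq]; exact ⟨hw, hw1⟩
      obtain ⟨n, hn'⟩ := this
      exact isConj_iff.mpr ⟨(n : G), hn'⟩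
    exact (key x hx hx1).symm.trans (key x' hx' hx'1)

example : StPermBound.{u} := permBound

end Cfsg.Agent.H73.Br

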