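import Mathlib
import Cfsg.Prelude.Def_KGroupFacts
import Cfsg.Agent.H73.C3RigidCore
import Cfsg.Agent.H33.C2.Abs
/-!
S2070 team project (helper33), piece C2-RIGID: the abstract rigidity argument for `Out(Co2) = 1`
(a variant of `Cfsg.Agent.H73.C3.rigid_core`: `z` self-centralising of odd order, inverted by the
involution `t`).
-/
set_option autoImplicit false

namespace Cfsg.Agent.H73.C2

open Cfsg.Agent.H73.C3

/-- C2-RIGID, with named hypotheses. -/
theorem rigid2_core {G : Type} [Group G] [Finite G] (x z t : G) (p k : ℕ)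
    (hp : p.Prime) (hx : orderOf x = p) (hp2 : ¬ p ^ 2 ∣ Nat.card G)
    (hC : ∀ s : G, s * x = x * s → s ∈ Subgroup.zpowers x)
    (hz : z * x * z⁻¹ = x ^ k) (hk : ¬ k % p = 1)
    (hodd : Odd (orderOf z))
    (hCz : ∀ s : G, s * z = z * s → s ∈ Subgroup.zpowers z)
    (ht2 : t ^ 2 = 1) (htz : t * z * t⁻¹ = z⁻¹)
    (hgen : Subgroup.closure ({x, z, t} : Set G) = ⊤)
    (hno : ∀ m : ℕ, 1 < m → m < p → ¬ ∃ β : G ≃* G, β x = x ^ m ∧ β z = z ∧ β t = t) :
    Nat.card (Cfsg.Out G) = 1 := by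
  have hp1 : 1 < p := hp.one_lt
  have hx1 : x ≠ 1 := by
    intro h
    rw [h, orderOf_one] at hx
    omega
  have htinv : t⁻¹ = t := by
    rw [inv_eq_iff_mul_eq_one, ← pow_two]; exact ht2
  -- an automorphism fixing `z`, `t` and normalising `⟨x⟩` is trivial
  have hA : ∀ (β : MulAut G) (j : ℕ), β x = x ^ j → β z = z → β t = t → β = 1 := by
    intro β j hβx hβz hβt
    have hjm : x ^ j = x ^ (j % p) := pow_eq_of_mod hx (by rw [Nat.mod_mod])
    have hm0 : j % p ≠ 0 := by
      intro h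
      rw [h, pow_zero] at hjm
      rw [hjm] at hβx
      exact hx1 (β.injective (by rw [hβx, map_one]))
    have hmp : j % p < p := Nat.mod_lt _ hp.pos
    by_cases hm1 : j % p = 1
    · have hβx' : β x = x := by rw [hβx, hjm, hm1, pow_one]
      have hid : (β : G ≃* G).toMonoidHom = MonoidHom.id G := by
        apply MonoidHom.eq_of_eqOn_dense hgen
        intro g hg
        simp only [Set.mem_insert_iff, Set.mem_singleton_iff] at hg
        rcases hg with rfl | rfl | rfl
        · exact hβx'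
        · exact hβz
        · exact hβt
      ext g
      exact DFunLike.congr_fun hid g
    · exfalso
      exact hno (j % p) (by omega) hmp ⟨β, by rw [hβx, hjm], hβz, hβt⟩
  have hmem : ∀ (c : G) (β : MulAut G), MulAut.conj c * β ∈ Cfsg.Inn G → β ∈ Cfsg.Inn G := by
    intro c β h
    have hc : MulAut.conj c ∈ Cfsg.Inn G := ⟨c, rfl⟩
    have h' := (Cfsg.Inn G).mul_mem ((Cfsg.Inn G).inv_mem hc) h
    rwa [inv_mul_cancel_left] at h'
  -- an automorphism fixing `z` and normalising `⟨x⟩` is inner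
  have hB : ∀ (β : MulAut G) (j : ℕ), β x = x ^ j → β z = z → β ∈ Cfsg.Inn G := by
    intro β j hβx hβz
    have h1 : β t * z * (β t)⁻¹ = z⁻¹ := by
      calc β t * z * (β t)⁻¹ = β (t * z * t⁻¹) := by rw [map_mul, map_mul, map_inv, hβz]
        _ = z⁻¹ := by rw [htz, map_inv, hβz]
    have hs : (β t * t) * z = z * (β t * t) := by
      have e1 : t * z = z⁻¹ * t := by rw [← htz, inv_mul_cancel_right]
      have e0 : β t * z = z⁻¹ * β t := by rw [← h1, inv_mul_cancel_right]
      have e2 : β t * z⁻¹ = z * β t := by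
        calc β t * z⁻¹ = z * (z⁻¹ * β t) * z⁻¹ := by group
          _ = z * (β t * z) * z⁻¹ := by rw [e0]
          _ = z * β t := by group
      calc (β t * t) * z = β t * (t * z) := mul_assoc _ _ _
        _ = β t * (z⁻¹ * t) := by rw [e1]
        _ = (β t * z⁻¹) * t := (mul_assoc _ _ _).symm
        _ = z * β t * t := by rw [e2]
        _ = z * (β t * t) := mul_assoc _ _ _
    have ho : 0 < orderOf z := orderOf_pos z
    obtain ⟨i, hio, hi⟩ := exists_pow_lt_of_mem_zpowers (rfl : orderOf z = orderOf z) ho (hCz _ hs)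
    have hβt : β t = z ^ i * t := by
      have : β t = (β t * t) * t⁻¹ := by rw [mul_inv_cancel_right]
      rw [this, hi, htinv]
    obtain ⟨q, hq⟩ := hodd
    obtain ⟨d, hd⟩ : ∃ d, orderOf z = d + i := ⟨orderOf z - i, by omega⟩
    obtain ⟨n, hn⟩ : ∃ n, n = d * (q + 1) := ⟨_, rfl⟩
    have hzn : z ^ (2 * n + i) = 1 := by
      have : 2 * n + i = (d + 1) * orderOf z := by
        rw [hn]
        have h2 : 2 * q + 1 = d + i := by rw [← hq, hd]
        rw [hq]
        nlinarith [h2]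
      rw [this, pow_mul', pow_orderOf_eq_one, one_pow]
    apply hmem (z ^ n)
    have h1 : MulAut.conj (z ^ n) * β = 1 := by
      refine hA _ (j * k ^ n) ?_ ?_ ?_
      · rw [MulAut.mul_apply, MulAut.conj_apply, hβx, ← conj_pow, conj_pow_eq hz n, ← pow_mul,
          mul_comm]
      · rw [MulAut.mul_apply, MulAut.conj_apply, hβz, (Commute.pow_self z n).eq,
          mul_inv_cancel_right]
      · rw [MulAut.mul_apply, MulAut.conj_apply, hβt]
        have e5 : t * (z ^ n)⁻¹ = z ^ n * t := by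
          have : t * (z ^ n)⁻¹ * t⁻¹ = z ^ n := by
            rw [← conj_inv, ← conj_pow, htz, inv_pow, inv_inv]
          calc t * (z ^ n)⁻¹ = (t * (z ^ n)⁻¹ * t⁻¹) * t := by rw [inv_mul_cancel_right]
            _ = z ^ n * t := by rw [this]
        calc z ^ n * (z ^ i * t) * (z ^ n)⁻¹ = z ^ n * z ^ i * (t * (z ^ n)⁻¹) := by
              simp only [mul_assoc]
          _ = z ^ n * z ^ i * (z ^ n * t) := by rw [e5]
          _ = z ^ (2 * n + i) * t := by
              rw [← pow_add, ← mul_assoc, ← pow_add]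
              congr 2
              ring
          _ = t := by rw [hzn, one_mul]
    rw [h1]
    exact (Cfsg.Inn G).one_mem
  -- an automorphism normalising `⟨x⟩` is inner
  have hCC : ∀ (β : MulAut G) (j : ℕ), 0 < j → j < p → β x = x ^ j → β ∈ Cfsg.Inn G := by
    intro β j hj0 hjp hβx
    have hcop : Nat.Coprime j p :=
      Nat.Coprime.symm ((Nat.Prime.coprime_iff_not_dvd hp).mpr (Nat.not_dvd_of_pos_of_lt hj0 hjp))
    obtain ⟨j', -, hj'⟩ := Nat.exists_mul_mod_eq_one_of_coprime hcop hp1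
    have hxj : (x ^ j) ^ j' = x := by
      rw [← pow_mul, pow_eq_of_mod hx (b := 1) (by rw [hj', Nat.mod_eq_of_lt hp1]), pow_one]
    have hw : β z * x ^ j * (β z)⁻¹ = (x ^ j) ^ k := by
      calc β z * x ^ j * (β z)⁻¹ = β (z * x * z⁻¹) := by rw [map_mul, map_mul, map_inv, hβx]
        _ = (x ^ j) ^ k := by rw [hz, map_pow, hβx]
    have hw2 : β z * x * (β z)⁻¹ = x ^ k := by
      calc β z * x * (β z)⁻¹ = β z * (x ^ j) ^ j' * (β z)⁻¹ := by rw [hxj]
        _ = (β z * x ^ j * (β z)⁻¹) ^ j' := (conj_pow).symm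
        _ = ((x ^ j) ^ k) ^ j' := by rw [hw]
        _ = ((x ^ j) ^ j') ^ k := pow_right_comm (x ^ j) k j'
        _ = x ^ k := by rw [hxj]
    have hs : (z⁻¹ * β z) * x = x * (z⁻¹ * β z) := by
      have e1 : β z * x = x ^ k * β z := by
        rw [← hw2, inv_mul_cancel_right]
      have e2 : z⁻¹ * x ^ k = x * z⁻¹ := by
        rw [← hz, mul_assoc, inv_mul_cancel_left]
      calc (z⁻¹ * β z) * x = z⁻¹ * (β z * x) := mul_assoc _ _ _
        _ = z⁻¹ * (x ^ k * β z) := by rw [e1]
        _ = (z⁻¹ * x ^ k) * β z := (mul_assoc _ _ _).symm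
        _ = x * z⁻¹ * β z := by rw [e2]
        _ = x * (z⁻¹ * β z) := mul_assoc _ _ _
    obtain ⟨i, -, hi⟩ := exists_pow_lt_of_mem_zpowers hx hp.pos (hC _ hs)
    have hβz : β z = z * x ^ i := by
      rw [← hi, mul_inv_cancel_left]
    have : Fact p.Prime := ⟨hp⟩
    have hk1 : (k : ZMod p) - 1 ≠ 0 := by
      intro h
      apply hk
      have h' : (k : ZMod p) = ((1 : ℕ) : ZMod p) := by
        rw [Nat.cast_one]
        exact sub_eq_zero.mp h
      have h'' := (ZMod.natCast_eq_natCast_iff' k 1 p).mp h'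
      rw [h'', Nat.mod_eq_of_lt hp1]
    obtain ⟨n, hn⟩ : ∃ n : ℕ, x ^ (k * n) = x ^ (n + i) := by
      refine ⟨((i : ZMod p) * ((k : ZMod p) - 1)⁻¹).val, ?_⟩
      apply pow_eq_of_mod hx
      rw [← ZMod.natCast_eq_natCast_iff']
      push_cast
      rw [ZMod.natCast_zmod_val]
      field_simp
      ring
    apply hmem (x ^ (k * n))
    refine hB _ j ?_ ?_
    · rw [MulAut.mul_apply, MulAut.conj_apply, hβx, ← pow_add, add_comm, pow_add,
        mul_inv_cancel_right]
    · rw [MulAut.mul_apply, MulAut.conj_apply, hβz]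
      have e3 : x ^ (k * n) * z = z * x ^ n := by
        have e4 : z * x ^ n * z⁻¹ = x ^ (k * n) := by rw [← conj_pow, hz, ← pow_mul]
        rw [← e4, inv_mul_cancel_right]
      calc x ^ (k * n) * (z * x ^ i) * (x ^ (k * n))⁻¹
          = (x ^ (k * n) * z) * x ^ i * (x ^ (k * n))⁻¹ := by rw [mul_assoc (x ^ (k * n)) z]
        _ = z * (x ^ n * x ^ i) * (x ^ (k * n))⁻¹ := by rw [e3, mul_assoc z]
        _ = z * x ^ (n + i) * (x ^ (k * n))⁻¹ := by rw [← pow_add]
        _ = z := by rw [← hn, mul_inv_cancel_right]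
  have hD : ∀ α : MulAut G, α ∈ Cfsg.Inn G := by
    intro α
    have hy : orderOf (α x) = p := by rw [MulEquiv.orderOf_eq, hx]
    obtain ⟨c, hc⟩ := exists_conj_mem_zpowers_of_sq_not_dvd hp hp2 x (α x) hx hy
    obtain ⟨j, hjp, hj'⟩ := exists_pow_lt_of_mem_zpowers hx hp.pos hc
    apply hmem c
    have hj0 : 0 < j := by
      rcases Nat.eq_zero_or_pos j with h | h
      · exfalso
        rw [h, pow_zero] at hj'
        have h1 : α x = 1 := conj_eq_one_iff.mp hj'
        exact hx1 (α.injective (by rw [h1, map_one]))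
      · exact h
    exact hCC _ j hj0 hjp (by rw [MulAut.mul_apply, MulAut.conj_apply]; exact hj')
  show (Cfsg.Inn G).index = 1
  rw [Subgroup.index_eq_one, eq_top_iff]
  intro α _
  exact hD α

/-- **C2-RIGID** (helper33's S2070 project). -/
theorem rigid2 : Cfsg.Agent.H33.C2.StRigid2 := by
  intro G _ _ x z t p k hp hx hp2 hC hz hk hodd hCz ht2 htz hgen hno
  exact rigid2_core x z t p k hp hx hp2 hC hz hk hodd hCz ht2 htz hgen hno

end Cfsg.Agent.H73.C2

example : ∀ {G : Type} [Group G] [Finite G] (x z t : G) (p k : ℕ),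
  p.Prime → orderOf x = p → ¬ p ^ 2 ∣ Nat.card G →
  (∀ s : G, s * x = x * s → s ∈ Subgroup.zpowers x) →
  z * x * z⁻¹ = x ^ k → ¬ k % p = 1 →
  Odd (orderOf z) →
  (∀ s : G, s * z = z * s → s ∈ Subgroup.zpowers z) →
  t ^ 2 = 1 → t * z * t⁻¹ = z⁻¹ →
  Subgroup.closure ({x, z, t} : Set G) = ⊤ →
  (∀ m : ℕ, 1 < m → m < p → ¬ ∃ β : G ≃* G, β x = x ^ m ∧ β z = z ∧ β t = t) →
  Nat.card (Cfsg.Out G) = 1 := Cfsg.Agent.H73.C2.rigid2

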