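import Mathlib
import Cfsg.Agent.H73.Syl

set_option autoImplicit false

namespace Cfsg.Agent.H73

/-- A finite group is not the union of the conjugates of a proper subgroup. -/
theorem eq_top_of_conj_cover {G : Type*} [Group G] [Finite G] (H : Subgroup G)
    (h : ∀ g : G, ∃ k : G, k⁻¹ * g * k ∈ H) : H = ⊤ := by
  classical
  let φ : (G ⧸ H) × H → G := fun x => x.1.out * (x.2 : G) * (x.1.out)⁻¹
  have hsurj : Function.Surjective φ := by
    intro g
    obtain ⟨k, hk⟩ := h g
    obtain ⟨h0, hh0⟩ := QuotientGroup.mk_out_eq_mul H k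
    set o := (QuotientGroup.mk k : G ⧸ H).out with ho
    have hk' : o⁻¹ * k ∈ H := by
      have : o⁻¹ * k = (h0 : G)⁻¹ := by rw [hh0]; group
      rw [this]; exact H.inv_mem h0.2
    refine ⟨(QuotientGroup.mk k, ⟨o⁻¹ * g * o, ?_⟩), ?_⟩
    · have : o⁻¹ * g * o = (o⁻¹ * k) * (k⁻¹ * g * k) * (o⁻¹ * k)⁻¹ := by group
      rw [this]; exact H.mul_mem (H.mul_mem hk' hk) (H.inv_mem hk')
    · show o * (o⁻¹ * g * o) * o⁻¹ = g
      group
  have hbij : Function.Bijective φ := hsurj.bijective_of_nat_card_le (by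
    rw [Nat.card_prod, ← Subgroup.card_eq_card_quotient_mul_card_subgroup])
  have hsub : Subsingleton (G ⧸ H) := by
    constructor
    intro a b
    have h1 : φ (a, 1) = φ (b, 1) := by
      simp [φ]
    have := hbij.1 h1
    exact (Prod.ext_iff.mp this).1
  rw [← Subgroup.index_eq_one, Subgroup.index]
  exact Nat.card_eq_one_iff_unique.mpr ⟨hsub, ⟨QuotientGroup.mk 1⟩⟩

/-- A subgroup of index prime to `p` contains a Sylow `p`-subgroup of the whole group. -/
theorem exists_sylow_le_of_not_dvd_index {G : Type*} [Group G] [Finite G] (p : ℕ) [Fact p.Prime]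
    (K : Subgroup G) (hK : ¬ p ∣ K.index) : ∃ Q : Sylow p G, (Q : Subgroup G) ≤ K := by
  obtain ⟨T⟩ : Nonempty (Sylow p K) := inferInstance
  have hcard : Nat.card ((T : Subgroup K).map K.subtype) = p ^ (Nat.card G).factorization p := by
    rw [Subgroup.card_map_of_injective K.subtype_injective, Sylow.card_eq_multiplicity,
      ← Subgroup.card_mul_index K, Nat.factorization_mul Nat.card_pos.ne' (Subgroup.index_ne_zero_of_finite),
      Finsupp.add_apply, Nat.factorization_eq_zero_of_not_dvd hK, add_zero]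
  refine ⟨Sylow.ofCard _ hcard, ?_⟩
  rw [Sylow.coe_ofCard]
  exact Subgroup.map_subtype_le _

/-- If `p` divides no conjugacy class size, the Sylow `p`-subgroups are central. -/
theorem sylow_le_center_of_not_dvd {G : Type*} [Group G] [Finite G] (p : ℕ) [Fact p.Prime]
    (h : ∀ g : G, ¬ p ∣ (Subgroup.centralizer ({g} : Set G)).index) (P : Sylow p G) :
    (P : Subgroup G) ≤ Subgroup.center G := by
  have htop : Subgroup.centralizer ((P : Subgroup G) : Set G) = ⊤ := by
    apply eq_top_of_conj_cover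
    intro g
    obtain ⟨Q, hQ⟩ := exists_sylow_le_of_not_dvd_index p _ (h g)
    obtain ⟨c, hc⟩ := MulAction.exists_smul_eq G P Q
    refine ⟨c, ?_⟩
    rw [Subgroup.mem_centralizer_iff]
    intro y hy
    have hy' : c * y * c⁻¹ ∈ (Q : Subgroup G) := by
      rw [← hc, sylow_mem_smul_iff]
      have : c⁻¹ * (c * y * c⁻¹) * c = y := by group
      rw [this]; exact hy
    have h2 := hQ hy'
    rw [Subgroup.mem_centralizer_iff] at h2
    have h3 := h2 g (Set.mem_singleton g)
    calc y * (c⁻¹ * g * c) = c⁻¹ * ((c * y * c⁻¹) * g) * c := by group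
      _ = c⁻¹ * (g * (c * y * c⁻¹)) * c := by rw [h3]
      _ = c⁻¹ * g * c * y := by group
  intro x hx
  rw [Subgroup.mem_center_iff]
  intro y
  have hy : y ∈ Subgroup.centralizer ((P : Subgroup G) : Set G) := htop ▸ Subgroup.mem_top y
  exact (Subgroup.mem_centralizer_iff.mp hy x hx).symm

end Cfsg.Agent.H73

namespace Cfsg.Agent.H73

/-- An element whose class size is prime to `p` is conjugate into the centralizer of any given
Sylow `p`-subgroup. -/
theorem exists_conj_mem_centralizer_sylow {G : Type*} [Group G] [Finite G] (p : ℕ) [Fact p.Prime]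
    (P : Sylow p G) (g : G) (h : ¬ p ∣ (Subgroup.centralizer ({g} : Set G)).index) :
    ∃ k : G, k⁻¹ * g * k ∈ Subgroup.centralizer ((P : Subgroup G) : Set G) := by
  obtain ⟨Q, hQ⟩ := exists_sylow_le_of_not_dvd_index p _ h
  obtain ⟨c, hc⟩ := MulAction.exists_smul_eq G P Q
  refine ⟨c, ?_⟩
  rw [Subgroup.mem_centralizer_iff]
  intro y hy
  have hy' : c * y * c⁻¹ ∈ (Q : Subgroup G) := by
    rw [← hc, sylow_mem_smul_iff]
    have : c⁻¹ * (c * y * c⁻¹) * c = y := by group
    rw [this]; exact hy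
  have h2 := hQ hy'
  rw [Subgroup.mem_centralizer_iff] at h2
  have h3 := h2 g (Set.mem_singleton g)
  calc y * (c⁻¹ * g * c) = c⁻¹ * ((c * y * c⁻¹) * g) * c := by group
    _ = c⁻¹ * (g * (c * y * c⁻¹)) * c := by rw [h3]
    _ = c⁻¹ * g * c * y := by group

/-- The number of non-identity elements conjugate into a subgroup `C` normalized by `N` is at most
`[G : N] * (#C - 1)`. -/
theorem ncard_conj_cover_le {G : Type*} [Group G] [Finite G] (C N : Subgroup G)
    (hCN : N ≤ Subgroup.normalizer (C : Set G)) :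
    {g : G | g ≠ 1 ∧ ∃ k : G, k⁻¹ * g * k ∈ C}.ncard ≤ N.index * (Nat.card C - 1) := by
  classical
  let f : (G ⧸ N) × G → G := fun x => x.1.out * x.2 * (x.1.out)⁻¹
  let D : Set ((G ⧸ N) × G) := Set.univ ×ˢ ((C : Set G) \ {1})
  have hsub : {g : G | g ≠ 1 ∧ ∃ k : G, k⁻¹ * g * k ∈ C} ⊆ f '' D := by
    rintro g ⟨hg1, k, hk⟩
    obtain ⟨n0, hn0⟩ := QuotientGroup.mk_out_eq_mul N k
    set o := (QuotientGroup.mk k : G ⧸ N).out with ho
    have hmem : o⁻¹ * g * o ∈ C := by
      have h1 : o⁻¹ * g * o = (n0 : G)⁻¹ * (k⁻¹ * g * k) * ((n0 : G)⁻¹)⁻¹ := by rw [hn0]; group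
      rw [h1]
      have hn := hCN (N.inv_mem n0.2)
      rw [Subgroup.mem_normalizer_iff] at hn
      exact (hn (k⁻¹ * g * k)).mp hk
    refine ⟨(QuotientGroup.mk k, o⁻¹ * g * o), ⟨Set.mem_univ _, hmem, ?_⟩, ?_⟩
    · intro h1
      rw [Set.mem_singleton_iff] at h1
      have h1' : o⁻¹ * g * o = 1 := h1
      apply hg1
      calc g = o * (o⁻¹ * g * o) * o⁻¹ := by group
        _ = 1 := by rw [h1']; group
    · show o * (o⁻¹ * g * o) * o⁻¹ = g
      group
  calc {g : G | g ≠ 1 ∧ ∃ k : G, k⁻¹ * g * k ∈ C}.ncard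
      ≤ (f '' D).ncard := Set.ncard_le_ncard hsub (Set.toFinite _)
    _ ≤ D.ncard := Set.ncard_image_le (Set.toFinite _)
    _ = N.index * (Nat.card C - 1) := by
      rw [Set.ncard_prod, Set.ncard_univ, Set.ncard_sdiff_singleton_of_mem (C.one_mem)]
      rfl

end Cfsg.Agent.H73
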