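import Mathlib
import Cfsg.Agent.H59.Fx2Defs
import Cfsg.Agent.H73.Syl
/-!
S3390 team project (helper59), piece FX-FROB: the subgroup `(G_α ⊓ G_β) ⊓ N` is a Frobenius
complement in the normal subgroup `N` of index 2 with `N ⊓ P = T`.
-/
set_option autoImplicit false

open scoped Pointwise

namespace Cfsg.Agent.H73.Fx2

open Cfsg.Agent.H59.Fx2

universe u v

/-- FX-FROB -/
theorem frob : StFrob.{u, v} := by
  intro G _ _ Ω _ _ _ htr P α β h hI hF N hNn hN2 hNP
  obtain ⟨c, hcP, hc1, hcα, hcβ⟩ := h.exT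
  have hTN : ∀ t ∈ (P : Subgroup G), t • α = α → t ∈ N := by
    intro t ht htα
    have h1 : t ∈ N ⊓ (P : Subgroup G) := by
      rw [hNP]
      exact ⟨ht, htα⟩
    exact h1.1
  have hcN : c ∈ N := hTN c hcP hcα
  -- the `2`-elements with a fixed point lie in `N`
  have h2N : ∀ (v : G) (a : ℕ) (γ : Ω), v ^ 2 ^ a = 1 → v • γ = γ → v ∈ N := by
    intro v a γ hv hγ
    have hpg : IsPGroup 2 (Subgroup.zpowers v) := by
      obtain ⟨b, -, hb⟩ := (Nat.dvd_prime_pow Nat.prime_two).mp (orderOf_dvd_of_pow_eq_one hv)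
      exact IsPGroup.of_card (n := b) (by rw [Nat.card_zpowers, hb])
    obtain ⟨Q, hQ⟩ := hpg.exists_le_sylow
    obtain ⟨k, hk⟩ := MulAction.exists_smul_eq G P Q
    have hvQ : v ∈ (Q : Subgroup G) := hQ (Subgroup.mem_zpowers v)
    rw [← hk, Cfsg.Agent.H73.sylow_mem_smul_iff] at hvQ
    obtain ⟨v', hv'⟩ : ∃ v' : G, v' = k⁻¹ * v * k := ⟨_, rfl⟩
    rw [← hv'] at hvQ
    have hv'N : v' ∈ N := by
      by_cases h1 : v' = 1
      · rw [h1]
        exact N.one_mem
      · have hδ : v' • (k⁻¹ • γ) = k⁻¹ • γ := by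
          rw [hv', mul_smul, mul_smul, smul_inv_smul, hγ]
        by_cases hδα : k⁻¹ • γ = α
        · rw [hδα] at hδ
          exact hTN v' hvQ hδ
        · by_cases hδβ : k⁻¹ • γ = β
          · rw [hδβ] at hδ
            exact hTN v' hvQ (h.fixα hvQ hδ)
          · exact absurd (hF _ hδα hδβ v' hvQ hδ) h1
    have e : v = k * v' * k⁻¹ := by
      rw [hv']
      group
    rw [e]
    exact hNn.conj_mem v' hv'N k
  refine ⟨((MulAction.stabilizer G α) ⊓ (MulAction.stabilizer G β)).subgroupOf N, ?_, ?_, ?_⟩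
  · intro hbot
    have hm : (⟨c, hcN⟩ : ↥N) ∈
        ((MulAction.stabilizer G α) ⊓ (MulAction.stabilizer G β)).subgroupOf N := by
      rw [Subgroup.mem_subgroupOf]
      exact ⟨hcα, hcβ⟩
    rw [hbot, Subgroup.mem_bot] at hm
    exact hc1 (congrArg Subtype.val hm)
  · intro htop
    apply hc1
    apply FaithfulSMul.eq_of_smul_eq_smul (α := Ω)
    intro ω
    rw [one_smul]
    obtain ⟨g, hg⟩ := MulAction.exists_smul_eq G α ω
    have hm : (⟨g⁻¹ * c * g, by
        have h1 := hNn.conj_mem c hcN g⁻¹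
        rwa [inv_inv] at h1⟩ : ↥N) ∈ (⊤ : Subgroup ↥N) := Subgroup.mem_top _
    rw [← htop, Subgroup.mem_subgroupOf] at hm
    have h1 : (g⁻¹ * c * g) • α = α := hm.1
    have h2 : c • g • α = g • ((g⁻¹ * c * g) • α) := by
      rw [mul_smul, mul_smul, smul_inv_smul]
    rw [← hg, h2, h1]
  · intro g hg
    rw [eq_bot_iff]
    intro x hx
    rw [Subgroup.mem_bot]
    by_contra hx1
    obtain ⟨hxH, hxg⟩ := Subgroup.mem_inf.mp hx
    rw [Subgroup.mem_pointwise_smul_iff_inv_smul_mem, MulAut.smul_def,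
      MulAut.conj_inv_apply] at hxg
    rw [Subgroup.mem_subgroupOf] at hxH hxg
    rw [Subgroup.coe_mul, Subgroup.coe_mul, Subgroup.coe_inv] at hxg
    obtain ⟨x0, hx0⟩ : ∃ x0 : G, x0 = (x : G) := ⟨_, rfl⟩
    obtain ⟨g0, hg0⟩ : ∃ g0 : G, g0 = (g : G) := ⟨_, rfl⟩
    rw [← hx0] at hxH
    rw [← hx0, ← hg0] at hxg
    have hg0N : g0 ∈ N := by rw [hg0]; exact g.2
    have hx01 : x0 ≠ 1 := by
      intro hh
      apply hx1
      apply Subtype.ext
      rw [← hx0, hh]
      rfl
    have hxα : x0 • α = α := hxH.1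
    have hxβ : x0 • β = β := hxH.2
    have hgα : x0 • (g0 • α) = g0 • α := by
      have h1 : (g0⁻¹ * x0 * g0) • α = α := hxg.1
      rw [mul_smul, mul_smul, inv_smul_eq_iff] at h1
      exact h1
    have hgβ : x0 • (g0 • β) = g0 • β := by
      have h1 : (g0⁻¹ * x0 * g0) • β = β := hxg.2
      rw [mul_smul, mul_smul, inv_smul_eq_iff] at h1
      exact h1
    have hfix := h.fix2 x0 hx01
    have h3α := fix_three hfix h.ne.symm hxα hxβ hgα
    have h3β := fix_three hfix h.ne.symm hxα hxβ hgβ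
    rcases h3α with hα | hα
    · rcases h3β with hβ | hβ
      · apply h.ne
        have h4 : g0 • β = g0 • α := by rw [hβ, hα]
        exact smul_left_cancel g0 h4
      · apply hg
        rw [Subgroup.mem_subgroupOf, ← hg0]
        exact ⟨hα, hβ⟩
    · obtain ⟨s, hsP, hsα⟩ := h.swap
      have hsN : s ∉ N := by
        intro hs
        have h4 : s ∈ N ⊓ (P : Subgroup G) := ⟨hs, hsP⟩
        rw [hNP] at h4
        have h5 : s • α = α := h4.2
        rw [hsα] at h5
        exact h.ne h5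
      obtain ⟨w, hw⟩ : ∃ w : G, w = s⁻¹ * g0 := ⟨_, rfl⟩
      have hwα : w • α = α := by
        rw [hw, mul_smul, hα, inv_smul_eq_iff, hsα]
      have hwN : w ∉ N := by
        intro hwN'
        apply hsN
        have h4 : s = g0 * w⁻¹ := by
          rw [hw]
          group
        rw [h4]
        exact N.mul_mem hg0N (N.inv_mem hwN')
      obtain ⟨a, m, hm, ham⟩ := Nat.exists_eq_two_pow_mul_odd (orderOf_pos w).ne'
      obtain ⟨k, hk⟩ := hm
      have hv2 : (w ^ m) ^ 2 ^ a = 1 := by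
        rw [← pow_mul, mul_comm, ← ham, pow_orderOf_eq_one]
      have hvα : (w ^ m) • α = α := by
        have h4 : w ∈ MulAction.stabilizer G α := hwα
        exact Subgroup.pow_mem _ h4 m
      have hvN : w ^ m ∉ N := by
        intro hv
        apply hwN
        have e : w = ((w * w) ^ k)⁻¹ * w ^ m := by
          rw [hk, ← pow_two, ← pow_mul, pow_succ, inv_mul_cancel_left]
        rw [e]
        exact N.mul_mem (N.inv_mem (N.pow_mem (Subgroup.mul_self_mem_of_index_two hN2 w) k)) hv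
      exact hvN (h2N (w ^ m) a α hv2 hvα)

example : StFrob.{u, v} := frob

end Cfsg.Agent.H73.Fx2
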