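import Mathlib
import Cfsg.Agent.H59.Fx2Defs
/-!
S3390 team project (helper59), piece FX-OMEGA: if `S` does not act freely off `{α, β}`, some
involution of `S` swapping `α` and `β` has a centralizer of order 4 in `S`.
-/
set_option autoImplicit false

open scoped Pointwise

namespace Cfsg.Agent.H73.Fx2

open Cfsg.Agent.H59.Fx2

universe u v

/-- a nontrivial normal subgroup of a finite `2`-group contains a nontrivial central element -/
theorem exists_central_of_normal {X : Type*} [Group X] [Finite X] (hX : IsPGroup 2 X)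
    (U : Subgroup X) [U.Normal] (u : X) (huU : u ∈ U) (hu1 : u ≠ 1) :
    ∃ z ∈ U, z ≠ 1 ∧ ∀ x : X, x * z = z * x := by
  have hpg : IsPGroup 2 (ConjAct X) := hX.of_equiv ConjAct.toConjAct
  have h2dvd : 2 ∣ Nat.card U := by
    obtain ⟨n, hn⟩ := (hX.to_subgroup U).exists_card_eq
    rcases Nat.eq_zero_or_pos n with h0 | h0
    · exfalso
      rw [h0, pow_zero] at hn
      have hbot : U = ⊥ := Subgroup.card_eq_one.mp hn
      rw [hbot, Subgroup.mem_bot] at huU
      exact hu1 huU
    · rw [hn]
      exact dvd_pow_self 2 (by omega)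
  have h1fix : (1 : U) ∈ MulAction.fixedPoints (ConjAct X) U := by
    intro g
    exact smul_one g
  obtain ⟨b, hb, hb1⟩ := hpg.exists_fixed_point_of_prime_dvd_card_of_fixed_point U h2dvd h1fix
  refine ⟨b, b.2, ?_, ?_⟩
  · intro h
    apply hb1
    apply Subtype.ext
    rw [h]
    rfl
  · intro x
    have h1 := hb (ConjAct.toConjAct x)
    have h2 : x * (b : X) * x⁻¹ = b := by
      have h3 := congrArg Subtype.val h1
      rw [ConjAct.Subgroup.val_conj_smul, ConjAct.smul_def, ConjAct.ofConjAct_toConjAct] at h3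
      exact h3
    rw [← h2, inv_mul_cancel_right, h2]

/-- FX-OMEGA -/
theorem omega : StOmega.{u, v} := by
  intro G _ _ Ω _ _ S α β h hI hF
  unfold Free at hF
  push Not at hF
  obtain ⟨ω, hωα, hωβ, y0, hy0S, hy0ω, hy01⟩ := hF
  have hTω : ∀ t ∈ S, t ≠ 1 → t • α = α → t • ω ≠ ω := by
    intro t ht ht1 htα htω
    rcases h.fixT t ht ht1 htα ω htω with h1 | h1
    · exact hωα h1
    · exact hωβ h1
  have hy0α : y0 • α = β := by
    rcases hI y0 hy0S with h1 | h1
    · exact absurd hy0ω (hTω y0 hy0S hy01 h1)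
    · exact h1
  have hy0β : y0 • β = α := h.swapβ hy0S hy0α
  have hy0sq : y0 * y0 = 1 := by
    by_contra hne
    apply hTω (y0 * y0) (S.mul_mem hy0S hy0S) hne
    · rw [mul_smul, hy0α, hy0β]
    · rw [mul_smul, hy0ω, hy0ω]
  obtain ⟨U, hU⟩ : ∃ U : Subgroup ↥S, U = (MulAction.stabilizer G α).subgroupOf S := ⟨_, rfl⟩
  have hmemU : ∀ s : ↥S, s ∈ U ↔ (s : G) • α = α := by
    intro s
    rw [hU, Subgroup.mem_subgroupOf, MulAction.mem_stabilizer_iff]
  have hUn : U.Normal := by
    constructor
    intro t ht s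
    rw [hmemU] at ht ⊢
    have hγ : (t : G) • ((s : G)⁻¹ • α) = (s : G)⁻¹ • α := by
      rcases hI _ (S.inv_mem s.2) with h1 | h1
      · rw [h1]
        exact ht
      · rw [h1]
        exact h.fixβ t.2 ht
    rw [Subgroup.coe_mul, Subgroup.coe_mul, Subgroup.coe_inv, mul_smul, mul_smul, hγ,
      smul_inv_smul]
  obtain ⟨t0, ht0S, ht01, ht0α, -⟩ := h.exT
  have hexU : (⟨t0, ht0S⟩ : ↥S) ∈ U := (hmemU _).mpr ht0α
  have hne1 : (⟨t0, ht0S⟩ : ↥S) ≠ 1 := fun hh => ht01 (congrArg Subtype.val hh)
  obtain ⟨z, hzU, hz1, hzc⟩ := exists_central_of_normal h.pg U ⟨t0, ht0S⟩ hexU hne1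
  obtain ⟨y, hy⟩ : ∃ y : ↥S, y = ⟨y0, hy0S⟩ := ⟨_, rfl⟩
  have hyv : (y : G) = y0 := by rw [hy]
  have hzα : (z : G) • α = α := (hmemU z).mp hzU
  have hz1' : (z : G) ≠ 1 := fun hh => hz1 (Subtype.ext hh)
  have hyz : y * z = z * y := hzc y
  have hyz' : y0 * (z : G) = (z : G) * y0 := by
    have h1 := congrArg Subtype.val hyz
    rw [Subgroup.coe_mul, Subgroup.coe_mul, hyv] at h1
    exact h1
  have hzω : (z : G) • ω ≠ ω := hTω z z.2 hz1' hzα
  have hyzω : y0 • ((z : G) • ω) = (z : G) • ω := by
    rw [← mul_smul, hyz', mul_smul, hy0ω]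
  have hfix := h.fix2 y0 hy01
  -- uniqueness of `z`
  have huniq : ∀ t : ↥S, t ∈ U → y * t = t * y → t = 1 ∨ t = z := by
    intro t htU hty
    by_cases ht1 : t = 1
    · left
      exact ht1
    · right
      have htα : (t : G) • α = α := (hmemU t).mp htU
      have ht1' : (t : G) ≠ 1 := fun hh => ht1 (Subtype.ext hh)
      have hty' : y0 * (t : G) = (t : G) * y0 := by
        have h1 := congrArg Subtype.val hty
        rw [Subgroup.coe_mul, Subgroup.coe_mul, hyv] at h1
        exact h1
      have htω : (t : G) • ω ≠ ω := hTω t t.2 ht1' htα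
      have hytω : y0 • ((t : G) • ω) = (t : G) • ω := by
        rw [← mul_smul, hty', mul_smul, hy0ω]
      have h3 := fix_three hfix (Ne.symm hzω) hy0ω hyzω hytω
      rcases h3 with h3 | h3
      · exact absurd h3 htω
      · have h4 : ((z : G)⁻¹ * (t : G)) • ω = ω := by
          rw [mul_smul, h3, inv_smul_smul]
        have h5 : ((z : G)⁻¹ * (t : G)) • α = α := by
          rw [mul_smul, htα, inv_smul_eq_iff, hzα]
        have h6 : (z : G)⁻¹ * (t : G) = 1 := by
          by_contra hne
          exact hTω _ (S.mul_mem (S.inv_mem z.2) t.2) hne h5 h4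
        apply Subtype.ext
        exact (inv_mul_eq_one.mp h6).symm
  have hysq : y * y = 1 := by
    apply Subtype.ext
    rw [Subgroup.coe_mul, hyv]
    exact hy0sq
  have hyU : y ∉ U := by
    rw [hmemU, hyv, hy0α]
    exact h.ne
  have hyzU : y * z ∉ U := by
    rw [hmemU, Subgroup.coe_mul, hyv, mul_smul, hzα, hy0α]
    exact h.ne
  have hy1 : y ≠ 1 := fun hh => hyU (hh ▸ U.one_mem)
  refine ⟨y, ?_, ?_, ?_⟩
  · exact orderOf_eq_prime_iff.mpr ⟨by rw [sq]; exact hysq, hy1⟩
  · rw [hyv]
    exact hy0α
  · have hset : ((Subgroup.centralizer ({y} : Set ↥S) : Subgroup ↥S) : Set ↥S) =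
        {1, z, y, y * z} := by
      ext s
      rw [SetLike.mem_coe, Subgroup.mem_centralizer_singleton_iff]
      simp only [Set.mem_insert_iff, Set.mem_singleton_iff]
      constructor
      · intro hs
        rcases hI (s : G) s.2 with h1 | h1
        · rcases huniq s ((hmemU s).mpr h1) hs.symm with h2 | h2
          · left
            exact h2
          · right
            left
            exact h2
        · have h2 : y * s ∈ U := by
            rw [hmemU, Subgroup.coe_mul, hyv, mul_smul, h1, hy0β]
          have h3 : y * (y * s) = (y * s) * y := by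
            rw [mul_assoc, hs]
          rcases huniq (y * s) h2 h3 with h4 | h4
          · right
            right
            left
            have h5 : y * (y * s) = y * 1 := by rw [h4]
            rw [← mul_assoc, hysq, one_mul, mul_one] at h5
            exact h5
          · right
            right
            right
            have h5 : y * (y * s) = y * z := by rw [h4]
            rw [← mul_assoc, hysq, one_mul] at h5
            exact h5
      · rintro (rfl | rfl | rfl | rfl)
        · rw [one_mul, mul_one]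
        · exact hyz.symm
        · rfl
        · rw [mul_assoc, ← hyz]
    have h4 : ({1, z, y, y * z} : Set ↥S).ncard = 4 := by
      rw [Set.ncard_insert_of_notMem, Set.ncard_insert_of_notMem, Set.ncard_pair]
      · intro hh
        exact hz1 (left_eq_mul.mp hh)
      · simp only [Set.mem_insert_iff, Set.mem_singleton_iff, not_or]
        refine ⟨fun hh => hyU (hh ▸ hzU), fun hh => hyzU (hh ▸ hzU)⟩
      · simp only [Set.mem_insert_iff, Set.mem_singleton_iff, not_or]
        refine ⟨fun hh => hz1 hh.symm, fun hh => hy1 hh.symm, fun hh => hyzU ?_⟩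
        rw [← hh]
        exact U.one_mem
    rw [← hset] at h4
    rw [← h4]
    exact Nat.card_coe_set_eq _

example : StOmega.{u, v} := omega

end Cfsg.Agent.H73.Fx2
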