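import Cfsg.Agent.H96.GuDefs

/-!
S5700 team project (helper96), piece GU-PROPER: some element of the commutator subgroup of the
isometry group does not normalise `F[J]`.
-/

set_option autoImplicit false

universe u

namespace Cfsg.Agent.H73.Gu

open Module Cfsg.Agent.H49 Cfsg.Agent.H95 Cfsg.Agent.H96.Gu

/-- **GU-PROPER.** -/
theorem proper (hInd : StInd.{u}) (hGP : StGP.{u}) (hSNM : StSNM.{u}) : StProper.{u} := by
  intro ι _ _ F _ _ Q J t N C
  obtain ⟨u, hu, -, -, hune⟩ := hSNM Q J t N C 0 0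
  have hu0 : u ≠ 0 := by
    intro h
    apply hune 0 0 0 0
    rw [h]; simp
  obtain ⟨y, hy, hyu, -, hyne⟩ := hSNM Q J t N C u u
  have hyK : ¬ inK J u y := by
    rintro ⟨a, b, hab⟩
    apply hyne a b 0 0
    rw [hab]; simp
  have hy0 : y ≠ 0 := by
    intro h
    apply hyK
    exact ⟨0, 0, by rw [h]; simp⟩
  have huy : QuadraticMap.polar (⇑Q) u y = 0 := by rw [QuadraticMap.polar_comm]; exact hyu.1
  obtain ⟨hI1, -⟩ := hInd Q J t N C u hu0
  obtain ⟨hIy, -⟩ := hInd Q J t N C y hy0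
  obtain ⟨-, hG⟩ := hGP Q J t N C u hu0
  obtain ⟨x, -, hx1, hx2, hx3, hx4⟩ := hG y hyK 1 t 0 0
  refine ⟨siegelG Q u y hu hy huy 1,
    Cfsg.Agent.H49.siegelG_mem_commutator Q C.nd C.ts u y hu hy huy 1, ?_⟩
  rintro ⟨a, b, hab⟩
  have hρ : ∀ z, act (siegelG Q u y hu hy huy 1) z
      = z + (QuadraticMap.polar (⇑Q) u z • y - QuadraticMap.polar (⇑Q) y z • u) := by
    intro z; rw [act_siegelG, one_smul]
  have h1 := hab u
  rw [hρ, hρ, pol_self Q hu, C.pol_self_J hu, hyu.1, hyu.2] at h1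
  simp only [zero_smul, sub_zero, add_zero] at h1
  have h1' : a • u + (b - 1) • J u = 0 := by
    rw [sub_smul, one_smul, ← add_sub_assoc, ← h1, sub_self]
  obtain ⟨ha, hb⟩ := hI1 a (b - 1) h1'
  have hb1 : b = 1 := sub_eq_zero.mp hb
  subst ha
  subst hb1
  have h2 := hab x
  rw [hρ, hρ] at h2
  have e1 : QuadraticMap.polar (⇑Q) u x = 1 := by rw [QuadraticMap.polar_comm]; exact hx1
  have e2 : QuadraticMap.polar (⇑Q) y x = 0 := by rw [QuadraticMap.polar_comm]; exact hx3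
  have e3 : QuadraticMap.polar (⇑Q) u (J x) = 0 := by
    rw [C.adj', e1, QuadraticMap.polar_comm, hx2]; ring
  have e4 : QuadraticMap.polar (⇑Q) y (J x) = 0 := by
    rw [C.adj', e2, QuadraticMap.polar_comm, hx4]; ring
  rw [e1, e2, e3, e4] at h2
  simp only [zero_smul, sub_zero, add_zero, one_smul, zero_add, map_add] at h2
  have hJy : J y = 0 := by
    have h3 : J x + J y = J x + 0 := by rw [add_zero]; exact h2.symm
    exact add_left_cancel h3
  have := hIy 0 1 (by rw [hJy]; simp)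
  exact one_ne_zero this.2

end Cfsg.Agent.H73.Gu

example (hInd : Cfsg.Agent.H96.Gu.StInd.{u}) (hGP : Cfsg.Agent.H96.Gu.StGP.{u})
    (hSNM : Cfsg.Agent.H96.Gu.StSNM.{u}) :
    ∀ {ι : Type} [Fintype ι] [DecidableEq ι] {F : Type u} [Field F] [Fintype F]
    (Q : QuadraticForm F (ι → F)) (J : (ι → F) →ₗ[F] (ι → F)) (t N : F),
    Cfsg.Agent.H96.Gu.Ctx Q J t N →
    ∃ g ∈ commutator ↥(Cfsg.isometryGroup F (⇑Q)), ¬ Cfsg.Agent.H96.Gu.Nrm Q J g :=
  Cfsg.Agent.H73.Gu.proper hInd hGP hSNM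

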