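import Mathlib
import Cfsg.Agent.H91.L34Defs

set_option autoImplicit false

namespace Cfsg.Agent.H73.L34

open Subgroup Cfsg.Agent.H91.L34

universe u

/-- two elements with square `c` (central, `c * c = 1`) whose product has square `c`
anticommute up to `c` -/
theorem anti_c {D : Type*} [Group D] (c : D) (hcen : ∀ g : D, g * c = c * g) (hcc : c * c = 1)
    (a b : D) (ha : a * a = c) (hb : b * b = c) (hab : (a * b) * (a * b) = c) :
    b * a = c * (a * b) := by
  have hainv : a⁻¹ = a * c := inv_eq_of_mul_eq_one_right (by rw [← mul_assoc, ha, hcc])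
  have hbinv : b⁻¹ = b * c := inv_eq_of_mul_eq_one_right (by rw [← mul_assoc, hb, hcc])
  calc b * a = a⁻¹ * ((a * b) * (a * b)) * b⁻¹ := by group
    _ = a⁻¹ * c * b⁻¹ := by rw [hab]
    _ = a * c * c * (b * c) := by rw [hainv, hbinv]
    _ = a * (c * c) * (b * c) := by group
    _ = a * b * c := by rw [hcc, mul_one, mul_assoc]
    _ = c * (a * b) := hcen (a * b)

/-- S5387-EA. -/
theorem ea : EaStmt.{u} := by
  intro D _ K E hKc hK2 hKE hsqK hfus htriple w hw
  -- all elements of `E ∖ K` have the same square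
  have hsame : ∀ x ∈ E, ∀ y ∈ E, x ∉ K → y ∉ K → x * x = y * y := by
    intro x hx y hy hxK hyK
    obtain ⟨n, hn⟩ := hfus x hx y hy hxK hyK
    obtain ⟨k, hk⟩ : ∃ k : D, k = n * x * n⁻¹ * y⁻¹ := ⟨_, rfl⟩
    have hkK : k ∈ K := hk ▸ hn
    have hkc : ∀ g : D, g * k = k * g := Subgroup.mem_center_iff.mp (hKc hkK)
    have hxxc : ∀ g : D, g * (x * x) = (x * x) * g :=
      Subgroup.mem_center_iff.mp (hKc (hsqK x hx))
    have h1 : n * x * n⁻¹ = k * y := by rw [hk]; group
    have h2 : (n * x * n⁻¹) * (n * x * n⁻¹) = x * x := by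
      calc (n * x * n⁻¹) * (n * x * n⁻¹) = n * (x * x) * n⁻¹ := by group
        _ = (x * x) * n * n⁻¹ := by rw [hxxc n]
        _ = x * x := by group
    have h3 : (k * y) * (k * y) = y * y := by
      calc (k * y) * (k * y) = k * (y * k) * y := by group
        _ = k * (k * y) * y := by rw [hkc y]
        _ = (k * k) * (y * y) := by group
        _ = y * y := by rw [hK2 k hkK, one_mul]
    rw [← h2, h1, h3]
  obtain ⟨x, hx, y, hy, z, hz, hxK, hyK, hzK, hxyK, hxzK, hyzK, hxyzK⟩ := htriple
  obtain ⟨c, hc⟩ : ∃ c : D, c = x * x := ⟨_, rfl⟩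
  have hcK : c ∈ K := hc ▸ hsqK x hx
  have hcen : ∀ g : D, g * c = c * g := Subgroup.mem_center_iff.mp (hKc hcK)
  have hcc : c * c = 1 := hK2 c hcK
  have hsq : ∀ v ∈ E, v ∉ K → v * v = c := by
    intro v hv hvK
    rw [hc]; exact hsame v hv x hx hvK hxK
  have hxx : x * x = c := hc.symm
  have hyy : y * y = c := hsq y hy hyK
  have hzz : z * z = c := hsq z hz hzK
  have hxy : (x * y) * (x * y) = c := hsq _ (E.mul_mem hx hy) hxyK
  have hxz : (x * z) * (x * z) = c := hsq _ (E.mul_mem hx hz) hxzK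
  have hyz : (y * z) * (y * z) = c := hsq _ (E.mul_mem hy hz) hyzK
  have hxyz : (x * y * z) * (x * y * z) = c :=
    hsq _ (E.mul_mem (E.mul_mem hx hy) hz) hxyzK
  have C1 : y * x = c * (x * y) := anti_c c hcen hcc x y hxx hyy hxy
  have C2 : z * x = c * (x * z) := anti_c c hcen hcc x z hxx hzz hxz
  have hone : (x * y * z) * (x * y * z) = 1 := by
    calc (x * y * z) * (x * y * z) = x * y * (z * x) * y * z := by group
      _ = x * y * (c * (x * z)) * y * z := by rw [C2]
      _ = ((x * y) * c) * (x * z) * y * z := by group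
      _ = (c * (x * y)) * (x * z) * y * z := by rw [hcen (x * y)]
      _ = c * (x * (y * x) * z * y * z) := by group
      _ = c * (x * (c * (x * y)) * z * y * z) := by rw [C1]
      _ = c * ((x * c) * (x * y) * z * y * z) := by group
      _ = c * ((c * x) * (x * y) * z * y * z) := by rw [hcen x]
      _ = (c * c) * ((x * x) * ((y * z) * (y * z))) := by group
      _ = 1 := by rw [hcc, hxx, hyz, hcc, one_mul]
  have hc1 : c = 1 := by rw [← hxyz, hone]
  by_cases hwK : w ∈ K
  · exact hK2 w hwK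
  · rw [hsq w hw hwK, hc1]

example : Cfsg.Agent.H91.L34.EaStmt.{u} := ea

end Cfsg.Agent.H73.L34
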