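import Mathlib
import Cfsg.Agent.H91.L34Defs

set_option autoImplicit false

namespace Cfsg.Agent.H73.L34

open Subgroup Cfsg.Agent.H91.L34

universe u

/-- S5387-TR. -/
theorem tr : TrStmt.{u} := by
  intro D _ _ hperf P hodd z hzc hz2 hzP
  have hcen : ∀ g : D, g * z = z * g := Subgroup.mem_center_iff.mp hzc
  have key : ∀ (k : ℕ) (g₀ : D), g₀⁻¹ * z ^ k * g₀ ∈ P → g₀⁻¹ * z ^ k * g₀ = z ^ k := by
    intro k g₀ _
    have hk : ∀ g : D, g * z ^ k = z ^ k * g :=
      Subgroup.mem_center_iff.mp (Subgroup.pow_mem _ hzc k)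
    rw [mul_assoc, ← hk g₀, ← mul_assoc, inv_mul_cancel, one_mul]
  have htr := MonoidHom.transfer_eq_pow (Abelianization.of (G := ↥P)) z key
  have h1 : MonoidHom.transfer (Abelianization.of (G := ↥P)) z = 1 := by
    have hk : (MonoidHom.transfer (Abelianization.of (G := ↥P))).ker = ⊤ := by
      rw [eq_top_iff, ← hperf]; exact Abelianization.commutator_subset_ker _
    exact MonoidHom.mem_ker.mp (hk ▸ Subgroup.mem_top z)
  rw [h1] at htr
  obtain ⟨m, hm⟩ := hodd
  have hpow : z ^ P.index = z := by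
    rw [hm, pow_succ, pow_mul, pow_two, hz2, one_pow, one_mul]
  have hmem : (⟨z, hzP⟩ : ↥P) ∈ (Abelianization.of (G := ↥P)).ker := by
    rw [MonoidHom.mem_ker]
    have heq : (⟨z ^ P.index, MonoidHom.transfer_eq_pow_aux z key⟩ : ↥P) = ⟨z, hzP⟩ :=
      Subtype.ext hpow
    rw [← heq]; exact htr.symm
  rw [Abelianization.ker_of] at hmem
  exact ⟨⟨z, hzP⟩, hmem, rfl⟩

example : Cfsg.Agent.H91.L34.TrStmt.{u} := tr

end Cfsg.Agent.H73.L34
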