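import Mathlib
import Cfsg.Prelude.Def_Local

set_option autoImplicit false

namespace Cfsg.Agent.H73

/-- For a normal subgroup `A`, the relative index is monotone for divisibility in the second
argument. -/
theorem relIndex_dvd_relIndex_of_normal_left {G : Type*} [Group G] (A : Subgroup G) [A.Normal]
    {K L : Subgroup G} (h : K ≤ L) : A.relIndex K ∣ A.relIndex L := by
  have h1 := Subgroup.relIndex_ker (QuotientGroup.mk' A) (K := K)
  have h2 := Subgroup.relIndex_ker (QuotientGroup.mk' A) (K := L)
  rw [QuotientGroup.ker_mk'] at h1 h2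
  rw [h1, h2]
  exact Subgroup.card_dvd_of_le (Subgroup.map_mono h)

/-- A subgroup of a `p`-soluble group is `p`-soluble. -/
theorem isPSolvable_subgroup {G : Type*} [Group G] {p : ℕ} [Fact p.Prime]
    (hG : Cfsg.IsPSolvable p G) (B : Subgroup G) : Cfsg.IsPSolvable p B := by
  have hp : p.Prime := Fact.out
  obtain ⟨n, H, h0, hlast, hmono, hnorm, hstep⟩ := hG
  refine ⟨n, fun i => (H i).subgroupOf B, ?_, ?_, ?_, ?_, ?_⟩
  · show (H 0).subgroupOf B = ⊥
    rw [h0, Subgroup.bot_subgroupOf]
  · show (H (Fin.last n)).subgroupOf B = ⊤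
    rw [hlast, Subgroup.top_subgroupOf]
  · intro i j hij
    exact Subgroup.comap_mono (hmono hij)
  · intro i
    haveI := hnorm i
    exact Subgroup.normal_subgroupOf
  · intro i
    haveI := hnorm i.castSucc
    have hle : H i.castSucc ≤ H i.succ := hmono (Fin.castSucc_le_succ i)
    have key : ((H i.castSucc).subgroupOf B).relIndex ((H i.succ).subgroupOf B) ∣
        (H i.castSucc).relIndex (H i.succ) := by
      have h1 : ((H i.castSucc).subgroupOf B).relIndex ((H i.succ).subgroupOf B)
          = (H i.castSucc).relIndex (H i.succ ⊓ B) := by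
        rw [← Subgroup.subgroupOf_map_subtype (H i.succ) B]
        exact Subgroup.relIndex_comap (H i.castSucc) B.subtype ((H i.succ).subgroupOf B)
      rw [h1]
      exact relIndex_dvd_relIndex_of_normal_left _ inf_le_left
    rcases hstep i with ⟨m, hm⟩ | hc
    · left
      rw [hm] at key
      obtain ⟨m', _, hm'⟩ := (Nat.dvd_prime_pow hp).mp key
      exact ⟨m', hm'⟩
    · right
      exact Nat.Coprime.coprime_dvd_left key hc

open MulAction in
/-- A subgroup whose index is coprime to the size of an orbit is transitive on that orbit. -/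
theorem exists_mem_smul_eq_of_coprime_index {G X : Type*} [Group G] [Finite G] [MulAction G X]
    (x : X) (K : Subgroup G) (h : (Nat.card (orbit G x)).Coprime K.index) (g : G) :
    ∃ c ∈ K, c • x = g • x := by
  set L := stabilizer G x with hL
  have hm : L.index = Nat.card (orbit G x) := by
    rw [hL, index_stabilizer, Nat.card_coe_set_eq]
  rw [← hm] at h
  have h1 : L.index * K.index ∣ (L ⊓ K).index :=
    Nat.Coprime.mul_dvd_of_dvd_of_dvd h (Subgroup.index_dvd_of_le inf_le_left)
      (Subgroup.index_dvd_of_le inf_le_right)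
  have h2 : (L ⊓ K).index ≤ L.index * K.index := Subgroup.index_inf_le
  have hpos : 0 < (L ⊓ K).index := Nat.pos_of_ne_zero Subgroup.index_ne_zero_of_finite
  have h3 : (L ⊓ K).index = L.index * K.index := le_antisymm h2 (Nat.le_of_dvd hpos h1)
  have h4 : (L ⊓ K).relIndex K * K.index = (L ⊓ K).index := Subgroup.relIndex_mul_index inf_le_right
  have hKpos : 0 < K.index := Nat.pos_of_ne_zero Subgroup.index_ne_zero_of_finite
  have h5 : L.relIndex K = L.index := by
    rw [Subgroup.inf_relIndex_right, h3] at h4
    exact Nat.eq_of_mul_eq_mul_right hKpos h4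
  have h6 : (orbit K x).ncard = L.relIndex K := by
    rw [← index_stabilizer (G := K)]
    rfl
  have h7 : orbit K x ⊆ orbit G x := orbit_subgroup_subset K x
  have h8 : orbit K x = orbit G x := by
    apply Set.eq_of_subset_of_ncard_le h7 _ (Set.finite_range _)
    rw [h6, h5, hL, index_stabilizer]
  have h9 : g • x ∈ orbit K x := h8 ▸ mem_orbit x g
  obtain ⟨⟨c, hc⟩, hcx⟩ := h9
  exact ⟨c, hc, hcx⟩

end Cfsg.Agent.H73
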