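import Mathlib
import Cfsg.Agent.H73.Syl
/-!
S3641 team project (helper21), piece S3641-Q: Sylow numbers of a quotient, exact:
`n_r(G) = n_r(H) · |K : N_K(R)|` for a surjection `φ : G → H` with kernel `K`.
-/
set_option autoImplicit false

namespace Cfsg.Agent.H73.SN

/-- `|N ⊔ K : N| = |K : N ⊓ K|` for `K` normal, in a finite group. -/
theorem relIndex_sup_eq {G : Type*} [Group G] [Finite G] (N K : Subgroup G) [K.Normal] :
    N.relIndex (N ⊔ K) = N.relIndex K := by
  have a1 : (N ⊓ K).relIndex K * K.index = (N ⊓ K).index :=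
    Subgroup.relIndex_mul_index inf_le_right
  have a2 : (N ⊓ K).relIndex N * N.index = (N ⊓ K).index :=
    Subgroup.relIndex_mul_index inf_le_left
  have a3 : K.relIndex (N ⊔ K) * (N ⊔ K).index = K.index :=
    Subgroup.relIndex_mul_index le_sup_right
  have a4 : N.relIndex (N ⊔ K) * (N ⊔ K).index = N.index :=
    Subgroup.relIndex_mul_index le_sup_left
  rw [Subgroup.inf_relIndex_right] at a1
  rw [Subgroup.inf_relIndex_left] at a2
  rw [Subgroup.relIndex_sup_right] at a3
  have hS : (N ⊔ K).index ≠ 0 := Subgroup.index_ne_zero_of_finite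
  have hI : (N ⊓ K).index ≠ 0 := Subgroup.index_ne_zero_of_finite
  have hKN : K.relIndex N ≠ 0 := by
    intro h0
    rw [h0, zero_mul] at a2
    exact hI a2.symm
  have h5 : N.relIndex (N ⊔ K) * (K.relIndex N * (N ⊔ K).index) =
      N.relIndex K * (K.relIndex N * (N ⊔ K).index) := by
    calc N.relIndex (N ⊔ K) * (K.relIndex N * (N ⊔ K).index)
        = K.relIndex N * (N.relIndex (N ⊔ K) * (N ⊔ K).index) := by ring
      _ = K.relIndex N * N.index := by rw [a4]
      _ = (N ⊓ K).index := a2
      _ = N.relIndex K * K.index := a1.symm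
      _ = N.relIndex K * (K.relIndex N * (N ⊔ K).index) := by rw [a3]
  exact Nat.eq_of_mul_eq_mul_right (Nat.pos_of_ne_zero (mul_ne_zero hKN hS)) h5

/-- S3641-Q -/
theorem card_sylow_eq_mul_relIndex {G H : Type*} [Group G] [Finite G] [Group H] (φ : G →* H)
    (hφ : Function.Surjective φ) (r : ℕ) [Fact r.Prime] (R : Sylow r G) :
    Nat.card (Sylow r G) = Nat.card (Sylow r H) *
      (Subgroup.normalizer ((R : Subgroup G) : Set G)).relIndex φ.ker := by
  classical
  have : Finite H := Finite.of_surjective φ hφ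
  obtain ⟨N, hN⟩ : ∃ N : Subgroup G, N = Subgroup.normalizer ((R : Subgroup G) : Set G) :=
    ⟨_, rfl⟩
  rw [← hN]
  obtain ⟨R', hR'⟩ : ∃ R' : Sylow r H, R' = R.mapSurjective hφ := ⟨_, rfl⟩
  obtain ⟨M, hM⟩ : ∃ M : Subgroup G,
      M = (Subgroup.normalizer ((R' : Subgroup H) : Set H)).comap φ := ⟨_, rfl⟩
  have h1 : Nat.card (Sylow r G) = N.index := by
    rw [hN]
    exact Sylow.card_eq_index_normalizer R
  have h2 : Nat.card (Sylow r H) = M.index := by
    rw [hM, Subgroup.index_comap_of_surjective _ hφ]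
    exact Sylow.card_eq_index_normalizer R'
  -- the image of a conjugate
  have hA : ∀ g : G, (φ g) • R' = (g • R).mapSurjective hφ := by
    intro g
    apply Sylow.ext
    ext x
    rw [Cfsg.Agent.H73.sylow_mem_smul_iff, hR', Sylow.coe_mapSurjective, Sylow.coe_mapSurjective,
      Subgroup.mem_map, Subgroup.mem_map]
    constructor
    · rintro ⟨a, ha, hax⟩
      refine ⟨g * a * g⁻¹, ?_, ?_⟩
      · rw [Cfsg.Agent.H73.sylow_mem_smul_iff]
        have e : g⁻¹ * (g * a * g⁻¹) * g = a := by group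
        rw [e]
        exact ha
      · rw [map_mul, map_mul, hax, map_inv]
        group
    · rintro ⟨y, hy, rfl⟩
      rw [Cfsg.Agent.H73.sylow_mem_smul_iff] at hy
      refine ⟨g⁻¹ * y * g, hy, ?_⟩
      rw [map_mul, map_mul, map_inv]
  have hmemM : ∀ g : G, g ∈ M ↔ (g • R).mapSurjective hφ = R' := by
    intro g
    rw [hM, Subgroup.mem_comap]
    have h := (Sylow.smul_eq_iff_mem_normalizer (g := φ g) (P := R')).symm
    rw [hA] at h
    exact h
  have hmemN : ∀ g : G, g ∈ N ↔ g • R = R := by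
    intro g
    rw [hN]
    exact Sylow.smul_eq_iff_mem_normalizer.symm
  have hNM : N ≤ M := by
    intro g hg
    rw [hmemM, (hmemN g).mp hg, hR']
  have hKM : φ.ker ≤ M := by
    intro k hk
    rw [hM, Subgroup.mem_comap, MonoidHom.mem_ker.mp hk]
    exact Subgroup.one_mem _
  have hRN : (R : Subgroup G) ≤ N := by
    rw [hN]
    exact Subgroup.le_normalizer
  have hML : M ≤ N ⊔ φ.ker := by
    intro g hg
    rw [hmemM, hR'] at hg
    have hg' : ((g • R : Sylow r G) : Subgroup G).map φ = (R : Subgroup G).map φ := by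
      have h := congrArg (fun Q : Sylow r H => (Q : Subgroup H)) hg
      exact h
    obtain ⟨L, hL⟩ : ∃ L : Subgroup G, L = ((R : Subgroup G).map φ).comap φ := ⟨_, rfl⟩
    have hRL : (R : Subgroup G) ≤ L := by
      rw [hL]
      exact Subgroup.le_comap_map _ _
    have hQL : ((g • R : Sylow r G) : Subgroup G) ≤ L := by
      rw [hL, ← hg']
      exact Subgroup.le_comap_map _ _
    have hLle : L ≤ N ⊔ φ.ker := by
      intro x hx
      rw [hL, Subgroup.mem_comap, Subgroup.mem_map] at hx
      obtain ⟨a, ha, hax⟩ := hx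
      have e : x = a * (a⁻¹ * x) := by group
      rw [e]
      refine Subgroup.mul_mem_sup (hRN ha) ?_
      rw [MonoidHom.mem_ker, map_mul, map_inv, hax, inv_mul_cancel]
    obtain ⟨l, hl⟩ := MulAction.exists_smul_eq L (R.subtype hRL) ((g • R).subtype hQL)
    rw [Sylow.smul_subtype] at hl
    have hl' : (l : G) • R = g • R := Sylow.subtype_injective hl
    have hmem : (l : G)⁻¹ * g ∈ N := by
      rw [hmemN, mul_smul, ← hl', inv_smul_smul]
    have e : g = (l : G) * ((l : G)⁻¹ * g) := by group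
    rw [e]
    exact (N ⊔ φ.ker).mul_mem (hLle l.2) (Subgroup.mem_sup_left hmem)
  have hMeq : M = N ⊔ φ.ker := le_antisymm hML (sup_le hNM hKM)
  have h3 : N.relIndex M * M.index = N.index := Subgroup.relIndex_mul_index hNM
  rw [hMeq, relIndex_sup_eq] at h3
  rw [h1, h2, hMeq, ← h3, mul_comm]

example {G H : Type*} [Group G] [Finite G] [Group H] (φ : G →* H)
    (hφ : Function.Surjective φ) (r : ℕ) [Fact r.Prime] (R : Sylow r G) :
    Nat.card (Sylow r G) = Nat.card (Sylow r H) *
      (Subgroup.normalizer ((R : Subgroup G) : Set G)).relIndex φ.ker :=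
  card_sylow_eq_mul_relIndex φ hφ r R

end Cfsg.Agent.H73.SN
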