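import Mathlib
import Cfsg.Agent.H52.SnDefs
import Cfsg.Agent.H73.SNQ

/-!
S2942 team project (helper52), piece SN-RED: if `C_X(V)` normalizes the Sylow 2-subgroup `T` and
`O₂(X)` centralizes `V`, then `O₂(X / C_X(V)) = 1` and `T ∩ C_X(V) ≤ O₂(X)`.
-/

set_option autoImplicit false

universe u

namespace Cfsg.Agent.H73.Sn

open Cfsg Cfsg.Agent.H52.Sn

/-- A 2-element normalizing a 2-subgroup of odd index lies in it. -/
theorem mem_of_two_elt {X : Type u} [Group X] [Finite X] (T : Subgroup X) (hT : IsPGroup 2 ↥T)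
    (hodd : Odd T.index) (g : X) (hg : g ∈ Subgroup.normalizer (T : Set X)) (k : ℕ)
    (hk : orderOf g = 2 ^ k) : g ∈ T := by
  have : Fact (Nat.Prime 2) := ⟨Nat.prime_two⟩
  have h2 : ¬ 2 ∣ T.index := fun h => (Nat.not_even_iff_odd.mpr hodd) (even_iff_two_dvd.mpr h)
  obtain ⟨P, hP⟩ : ∃ P : Sylow 2 X, (P : Subgroup X) = T := ⟨hT.toSylow h2, rfl⟩
  have hZ : IsPGroup 2 ↥(Subgroup.zpowers g) :=
    IsPGroup.of_card (n := k) (by rw [Nat.card_zpowers, hk])
  have hZT : Subgroup.zpowers g ≤ Subgroup.normalizer (T : Set X) := by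
    rw [Subgroup.zpowers_le]; exact hg
  have hsup : IsPGroup 2 ↥(Subgroup.zpowers g ⊔ T) := IsPGroup.to_sup_of_normal_right' hZ hT hZT
  have h3 := P.is_maximal' hsup (by rw [hP]; exact le_sup_right)
  rw [hP] at h3
  rw [← h3]
  exact Subgroup.mem_sup_left (Subgroup.mem_zpowers g)

/-- Elements of a 2-group have 2-power order. -/
theorem orderOf_two_pow {X : Type u} [Group X] (T : Subgroup X) (hT : IsPGroup 2 ↥T) (n : X)
    (hn : n ∈ T) : ∃ k : ℕ, orderOf n = 2 ^ k := by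
  obtain ⟨k, hk⟩ := hT ⟨n, hn⟩
  have h1 : n ^ 2 ^ k = 1 := by
    have := congrArg Subtype.val hk
    simpa using this
  obtain ⟨j, -, hj⟩ := (Nat.dvd_prime_pow Nat.prime_two).mp (orderOf_dvd_of_pow_eq_one h1)
  exact ⟨j, hj⟩

/-- If the normal subgroup `D` normalizes the Sylow 2-subgroup `T`, then `D ⊓ T` is normal. -/
theorem inf_normal {X : Type u} [Group X] [Finite X] (T : Subgroup X) (hT : IsPGroup 2 ↥T)
    (hodd : Odd T.index) (D : Subgroup X) [hD : D.Normal]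
    (hDT : D ≤ Subgroup.normalizer (T : Set X)) : (D ⊓ T).Normal := by
  constructor
  intro n hn g
  obtain ⟨hnD, hnT⟩ := Subgroup.mem_inf.mp hn
  have h1 : g * n * g⁻¹ ∈ D := hD.conj_mem n hnD g
  obtain ⟨k, hk⟩ := orderOf_two_pow T hT n hnT
  have h2 : orderOf (g * n * g⁻¹) = 2 ^ k := by
    rw [← hk, ← MulAut.conj_apply, MulEquiv.orderOf_eq]
  exact Subgroup.mem_inf.mpr ⟨h1, mem_of_two_elt T hT hodd _ (hDT h1) k h2⟩

theorem le_pCore {X : Type u} [Group X] (N : Subgroup X) (hN : N.Normal) (hN2 : IsPGroup 2 ↥N) :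
    N ≤ pCore 2 X := le_sSup ⟨hN, hN2⟩

/-- **SN-RED.** -/
theorem red : StRed.{u} := by
  intro X _ _ T V _ hT hodd hQC hCT
  obtain ⟨C, hC⟩ : ∃ C : Subgroup X, C = Subgroup.centralizer (V : Set X) := ⟨_, rfl⟩
  have hCn : C.Normal := by rw [hC]; infer_instance
  rw [← hC] at hQC hCT
  have hTC : T ⊓ C ≤ pCore 2 X := by
    have h1 : (C ⊓ T).Normal := inf_normal T hT hodd C hCT
    rw [inf_comm]
    exact le_pCore _ h1 (hT.to_le inf_le_right)
  refine ⟨?_, by rw [← hC]; exact hTC⟩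
  show sSup {N : Subgroup (X ⧸ Subgroup.centralizer (V : Set X)) | N.Normal ∧ IsPGroup 2 N} = ⊥
  rw [sSup_eq_bot]
  rintro N ⟨hNn, hN2⟩
  obtain ⟨D, hD⟩ : ∃ D : Subgroup X,
      D = N.comap (QuotientGroup.mk' (Subgroup.centralizer (V : Set X))) := ⟨_, rfl⟩
  have hDn : D.Normal := by rw [hD]; infer_instance
  have hCD : C ≤ D := by
    intro c hc
    rw [hD, Subgroup.mem_comap]
    have : QuotientGroup.mk' (Subgroup.centralizer (V : Set X)) c = 1 := by
      rw [QuotientGroup.mk'_apply, QuotientGroup.eq_one_iff, ← hC]; exact hc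
    rw [this]; exact N.one_mem
  -- `[D : C]` is a power of `2`
  have hDC : C.relIndex D = Nat.card N := by
    have e1 : C = (⊥ : Subgroup (X ⧸ Subgroup.centralizer (V : Set X))).comap
        (QuotientGroup.mk' (Subgroup.centralizer (V : Set X))) := by
      rw [MonoidHom.comap_bot, QuotientGroup.ker_mk', hC]
    rw [e1, Subgroup.relIndex_comap, Subgroup.relIndex_bot_left, hD,
      Subgroup.map_comap_eq_self_of_surjective (QuotientGroup.mk'_surjective _)]
  obtain ⟨n, hn⟩ := IsPGroup.iff_card.mp hN2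
  -- `D ≤ C ⊔ (D ⊓ T)`
  have hE : D ≤ C ⊔ (D ⊓ T) := by
    rw [← Subgroup.relIndex_eq_one]
    have d1 : (C ⊔ (D ⊓ T)).relIndex D ∣ C.relIndex D :=
      Subgroup.relIndex_dvd_of_le_left D le_sup_left
    have d2 : (C ⊔ (D ⊓ T)).relIndex D ∣ (D ⊓ T).relIndex D :=
      Subgroup.relIndex_dvd_of_le_left D le_sup_right
    rw [Subgroup.inf_relIndex_left, ← Cfsg.Agent.H73.SN.relIndex_sup_eq T D] at d2
    have d3 : T.relIndex (T ⊔ D) ∣ T.index :=
      Dvd.intro _ (Subgroup.relIndex_mul_index (le_sup_left : T ≤ T ⊔ D))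
    have hodd2 : Odd ((C ⊔ (D ⊓ T)).relIndex D) := Odd.of_dvd_nat hodd (d2.trans d3)
    rw [hDC, hn] at d1
    obtain ⟨j, -, hj⟩ := (Nat.dvd_prime_pow Nat.prime_two).mp d1
    rw [hj] at hodd2 ⊢
    rcases Nat.eq_zero_or_pos j with h0 | h0
    · rw [h0, pow_zero]
    · exfalso
      have : Even (2 ^ j) := (Nat.even_pow.mpr ⟨even_two, by omega⟩)
      exact (Nat.not_even_iff_odd.mpr hodd2) this
  have hDT : D ≤ Subgroup.normalizer (T : Set X) :=
    hE.trans (sup_le hCT (inf_le_right.trans Subgroup.le_normalizer))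
  have hP : D ⊓ T ≤ C :=
    (le_pCore _ (inf_normal T hT hodd D hDT) (hT.to_le inf_le_right)).trans hQC
  have hDC' : D ≤ C := hE.trans (sup_le le_rfl hP)
  rw [eq_bot_iff]
  intro q hq
  obtain ⟨d, rfl⟩ := QuotientGroup.mk'_surjective (Subgroup.centralizer (V : Set X)) q
  have hd : d ∈ D := by rw [hD, Subgroup.mem_comap]; exact hq
  rw [Subgroup.mem_bot, QuotientGroup.mk'_apply, QuotientGroup.eq_one_iff, ← hC]
  exact hDC' hd

end Cfsg.Agent.H73.Sn

example : ∀ {X : Type u} [Group X] [Finite X] (T V : Subgroup X) [V.Normal],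
  IsPGroup 2 ↥T → Odd T.index →
  Cfsg.pCore 2 X ≤ Subgroup.centralizer (V : Set X) →
  Subgroup.centralizer (V : Set X) ≤ Subgroup.normalizer (T : Set X) →
  Cfsg.pCore 2 (X ⧸ Subgroup.centralizer (V : Set X)) = ⊥ ∧
    T ⊓ Subgroup.centralizer (V : Set X) ≤ Cfsg.pCore 2 X :=
  Cfsg.Agent.H73.Sn.red

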