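import Mathlib
import Cfsg.Agent.H37.SpDefs

/-!
# S2944, piece SP-CEXT (for helper37)

A central extension, with kernel of odd order, of a group generated by independent normal
copies of `SL(2,2)`: the elements of odd order commute.
-/

set_option autoImplicit false

universe u

namespace Cfsg.Agent.H73.Sp

open Cfsg.Agent.H37.Sp

theorem sl22_sq_cases : ∀ A B : Matrix.SpecialLinearGroup (Fin 2) (ZMod 2),
    A * A = 1 ∨ B * B = 1 ∨ B * B = A * A ∨ B * B = (A * A) * (A * A) := by decide

theorem sl22_invert : ∀ A : Matrix.SpecialLinearGroup (Fin 2) (ZMod 2),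
    ∃ T : Matrix.SpecialLinearGroup (Fin 2) (ZMod 2),
      T * T = 1 ∧ T * (A * A) * T * (A * A) = 1 := by decide

/-- If `b` commutes with every lift of every generator, it commutes with every lift of every
element of the closure (the kernel being central). -/
theorem comm_closure {G Y : Type*} [Group G] [Group Y] (π : G →* Y) (gens : Set Y)
    (hker : π.ker ≤ Subgroup.center G) (hgr : gens ⊆ (π.range : Set Y)) (b : G)
    (hb : ∀ a, π a ∈ gens → a * b = b * a) :
    ∀ a, π a ∈ Subgroup.closure gens → a * b = b * a := by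
  have hcl : Subgroup.closure gens ≤ π.range := (Subgroup.closure_le _).mpr hgr
  have key : ∀ s ∈ Subgroup.closure gens, ∀ a, π a = s → a * b = b * a := by
    intro s hs
    induction hs using Subgroup.closure_induction with
    | mem s hs =>
      intro a ha
      exact hb a (ha ▸ hs)
    | one =>
      intro a ha
      have h1 : a ∈ Subgroup.center G := hker (MonoidHom.mem_ker.mpr ha)
      exact ((Subgroup.mem_center_iff.mp h1) b).symm
    | mul s1 s2 hs1 hs2 ih1 ih2 =>
      intro a ha
      obtain ⟨a1, ha1⟩ := hcl hs1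
      have h2 : π (a1⁻¹ * a) = s2 := by
        rw [map_mul, map_inv, ha1, ha]
        group
      have e1 := ih1 a1 ha1
      have e2 := ih2 _ h2
      calc a * b = a1 * ((a1⁻¹ * a) * b) := by group
        _ = a1 * (b * (a1⁻¹ * a)) := by rw [e2]
        _ = (a1 * b) * (a1⁻¹ * a) := by group
        _ = (b * a1) * (a1⁻¹ * a) := by rw [e1]
        _ = b * a := by group
    | inv s hs ih =>
      intro a ha
      have h2 : π a⁻¹ = s := by rw [map_inv, ha, inv_inv]
      have e1 := ih a⁻¹ h2
      calc a * b = a * (b * a⁻¹) * a := by group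
        _ = a * (a⁻¹ * b) * a := by rw [e1]
        _ = b * a := by group
  intro a ha
  exact key _ ha a rfl

/-- piece SP-CEXT -/
theorem cext : StCext.{u} := by
  intro G₁ Y _ _ _ π ι E hker hodd hN hiso hind hsup x y hxo hyo
  have hEH : ∀ i, E i ≤ π.range := fun i => hsup ▸ le_iSup E i
  have hconj : ∀ i, ∀ h ∈ π.range, ∀ e ∈ E i, h * e * h⁻¹ ∈ E i := by
    intro i h hh e he
    exact (Subgroup.mem_normalizer_iff.mp (hN i hh) e).mp he
  -- different factors commute
  have hcomm : ∀ i j, i ≠ j → ∀ a ∈ E i, ∀ b ∈ E j, a * b = b * a := by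
    intro i j hij a ha b hb
    have hd : Disjoint (E i) (E j) := hind.pairwiseDisjoint hij
    have h1 : a * b * a⁻¹ * b⁻¹ ∈ E i := by
      have h0 := hconj i b (hEH j hb) a⁻¹ ((E i).inv_mem ha)
      have e : a * b * a⁻¹ * b⁻¹ = a * (b * a⁻¹ * b⁻¹) := by group
      rw [e]
      exact (E i).mul_mem ha h0
    have h2 : a * b * a⁻¹ * b⁻¹ ∈ E j := by
      have h0 := hconj j a (hEH i ha) b hb
      exact (E j).mul_mem h0 ((E j).inv_mem hb)
    have h3 := Subgroup.disjoint_def.mp hd h1 h2
    have e : a * b = (a * b * a⁻¹ * b⁻¹) * (b * a) := by group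
    rw [e, h3, one_mul]
  have hcomm2 : ∀ i j, i ≠ j → ∀ a ∈ E i, ∀ b ∈ E j, a * (b * b) = (b * b) * a := by
    intro i j hij a ha b hb
    have hc := hcomm i j hij a ha b hb
    calc a * (b * b) = (a * b) * b := by group
      _ = (b * a) * b := by rw [hc]
      _ = b * (a * b) := by group
      _ = b * (b * a) := by rw [hc]
      _ = (b * b) * a := by group
  -- the subgroup generated by the squares
  obtain ⟨gens, hgens⟩ : ∃ gens : Set Y, gens = {s : Y | ∃ i, ∃ e ∈ E i, s = e * e} := ⟨_, rfl⟩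
  obtain ⟨S, hSdef⟩ : ∃ S : Subgroup Y, S = Subgroup.closure gens := ⟨_, rfl⟩
  have hsq : ∀ i, ∀ e ∈ E i, e * e ∈ S := by
    intro i e he
    rw [hSdef]
    apply Subgroup.subset_closure
    rw [hgens]
    exact ⟨i, e, he, rfl⟩
  -- it is normalized by the range
  have hSn : ∀ h ∈ π.range, ∀ s ∈ S, h * s * h⁻¹ ∈ S := by
    intro h hh s hs
    rw [hSdef] at hs
    induction hs using Subgroup.closure_induction with
    | mem s hs =>
      rw [hgens] at hs
      obtain ⟨i, e, he, rfl⟩ := hs
      have e1 : h * (e * e) * h⁻¹ = (h * e * h⁻¹) * (h * e * h⁻¹) := by group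
      rw [e1]
      exact hsq i _ (hconj i h hh e he)
    | one =>
      have e1 : h * 1 * h⁻¹ = 1 := by group
      rw [e1]
      exact S.one_mem
    | mul a b _ _ ha hb =>
      have e1 : h * (a * b) * h⁻¹ = (h * a * h⁻¹) * (h * b * h⁻¹) := by group
      rw [e1]
      exact S.mul_mem ha hb
    | inv a _ ha =>
      have e1 : h * a⁻¹ * h⁻¹ = (h * a * h⁻¹)⁻¹ := by group
      rw [e1]
      exact S.inv_mem ha
  -- the elements of the factors are central modulo `S`
  have hD : ∀ i, ∀ e ∈ E i, ∀ g ∈ π.range, g * e * g⁻¹ * e⁻¹ ∈ S := by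
    intro i e he g hg
    have key : g ∈ π.range ∧ g * e * g⁻¹ * e⁻¹ ∈ S := by
      rw [← hsup] at hg
      refine Subgroup.iSup_induction E
        (C := fun g => g ∈ π.range ∧ g * e * g⁻¹ * e⁻¹ ∈ S) hg ?_ ?_ ?_
      · intro j g hg
        refine ⟨hEH j hg, ?_⟩
        by_cases hij : j = i
        · subst hij
          have e1 : g * e * g⁻¹ * e⁻¹
              = (g * e) * (g * e) * (e⁻¹ * (g⁻¹ * g⁻¹) * e⁻¹⁻¹) * (e⁻¹ * e⁻¹) := by group
          rw [e1]
          refine S.mul_mem (S.mul_mem (hsq j _ ((E j).mul_mem hg he)) ?_)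
            (hsq j _ ((E j).inv_mem he))
          exact hSn e⁻¹ (π.range.inv_mem (hEH j he)) _ (hsq j _ ((E j).inv_mem hg))
        · have hc := hcomm j i hij g hg e he
          have e1 : g * e * g⁻¹ * e⁻¹ = 1 := by
            rw [hc]
            group
          rw [e1]
          exact S.one_mem
      · refine ⟨π.range.one_mem, ?_⟩
        have e1 : (1 : Y) * e * 1⁻¹ * e⁻¹ = 1 := by group
        rw [e1]
        exact S.one_mem
      · rintro g1 g2 ⟨hg1, h1⟩ ⟨hg2, h2⟩
        refine ⟨π.range.mul_mem hg1 hg2, ?_⟩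
        have e1 : g1 * g2 * e * (g1 * g2)⁻¹ * e⁻¹
            = (g1 * (g2 * e * g2⁻¹ * e⁻¹) * g1⁻¹) * (g1 * e * g1⁻¹ * e⁻¹) := by group
        rw [e1]
        exact S.mul_mem (hSn g1 hg1 _ h2) h1
    exact key.2
  -- every square lies in `S`
  have hC : ∀ h ∈ π.range, h * h ∈ S := by
    intro h hh
    have key : h ∈ π.range ∧ h * h ∈ S ∧ ∀ g ∈ π.range, g * h * g⁻¹ * h⁻¹ ∈ S := by
      rw [← hsup] at hh
      refine Subgroup.iSup_induction E
        (C := fun h => h ∈ π.range ∧ h * h ∈ S ∧ ∀ g ∈ π.range, g * h * g⁻¹ * h⁻¹ ∈ S)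
        hh ?_ ?_ ?_
      · intro i h hh
        exact ⟨hEH i hh, hsq i h hh, fun g hg => hD i h hh g hg⟩
      · refine ⟨π.range.one_mem, ?_, ?_⟩
        · rw [one_mul]
          exact S.one_mem
        · intro g _
          have e1 : g * 1 * g⁻¹ * (1 : Y)⁻¹ = 1 := by group
          rw [e1]
          exact S.one_mem
      · rintro h1 h2 ⟨hh1, hs1, hc1⟩ ⟨hh2, hs2, hc2⟩
        refine ⟨π.range.mul_mem hh1 hh2, ?_, ?_⟩
        · have e1 : h1 * h2 * (h1 * h2)
              = (h1 * (h2 * h1 * h2⁻¹ * h1⁻¹) * h1⁻¹) * (h1 * h1) * (h2 * h2) := by group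
          rw [e1]
          exact S.mul_mem (S.mul_mem (hSn h1 hh1 _ (hc1 h2 hh2)) hs1) hs2
        · intro g hg
          have e1 : g * (h1 * h2) * g⁻¹ * (h1 * h2)⁻¹
              = (g * h1 * g⁻¹ * h1⁻¹) * (h1 * (g * h2 * g⁻¹ * h2⁻¹) * h1⁻¹) := by group
          rw [e1]
          exact S.mul_mem (hc1 g hg) (hSn h1 hh1 _ (hc2 g hg))
    exact key.2.1
  -- kernel facts
  have hkc : ∀ k : G₁, π k = 1 → ∀ g : G₁, g * k = k * g := fun k hk g =>
    Subgroup.mem_center_iff.mp (hker (MonoidHom.mem_ker.mpr hk)) g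
  have hk1 : ∀ k : G₁, π k = 1 → ∀ n : ℕ, k ^ (2 ^ n) = 1 → k = 1 := by
    intro k hk n hn
    have h1 : k ^ Nat.card π.ker = 1 := by
      have h0 := pow_card_eq_one' (G := π.ker) (x := ⟨k, MonoidHom.mem_ker.mpr hk⟩)
      have h00 := congrArg Subtype.val h0
      simpa using h00
    have hcop : Nat.Coprime (2 ^ n) (Nat.card π.ker) :=
      Nat.Coprime.pow_left n (Nat.coprime_two_left.mpr hodd)
    have h2 : k ^ Nat.gcd (2 ^ n) (Nat.card π.ker) = 1 := pow_gcd_eq_one.mpr ⟨hn, h1⟩
    rw [Nat.Coprime.gcd_eq_one hcop, pow_one] at h2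
    exact h2
  -- lifts of generators commute
  have hA : ∀ a b : G₁, π a ∈ gens → π b ∈ gens → a * b = b * a := by
    intro a b ha hb
    rw [hgens] at ha hb
    obtain ⟨i, e, he, hae⟩ := ha
    obtain ⟨j, e', he', hbe⟩ := hb
    by_cases hij : i = j
    · subst hij
      obtain ⟨φ⟩ := hiso i
      have tr : ∀ u v : E i, φ u = φ v → (u : Y) = v := fun u v h =>
        congrArg Subtype.val (φ.injective h)
      rcases sl22_sq_cases (φ ⟨e, he⟩) (φ ⟨e', he'⟩) with h | h | h | h
      · have h1 : e * e = 1 := by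
          have h0 := tr (⟨e, he⟩ * ⟨e, he⟩) 1 (by rw [map_mul, map_one]; exact h)
          simpa using h0
        have h2 : π a = 1 := by rw [hae, h1]
        exact (hkc a h2 b).symm
      · have h1 : e' * e' = 1 := by
          have h0 := tr (⟨e', he'⟩ * ⟨e', he'⟩) 1 (by rw [map_mul, map_one]; exact h)
          simpa using h0
        have h2 : π b = 1 := by rw [hbe, h1]
        exact hkc b h2 a
      · have h1 : e' * e' = e * e := by
          have h0 := tr (⟨e', he'⟩ * ⟨e', he'⟩) (⟨e, he⟩ * ⟨e, he⟩)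
            (by rw [map_mul, map_mul]; exact h)
          simpa using h0
        have hk : π (b * a⁻¹) = 1 := by
          rw [map_mul, map_inv, hae, hbe, h1, mul_inv_cancel]
        have hc := hkc _ hk a
        calc a * b = a * (b * a⁻¹) * a := by group
          _ = (b * a⁻¹) * a * a := by rw [hc]
          _ = b * a := by group
      · have h1 : e' * e' = (e * e) * (e * e) := by
          have h0 := tr (⟨e', he'⟩ * ⟨e', he'⟩) ((⟨e, he⟩ * ⟨e, he⟩) * (⟨e, he⟩ * ⟨e, he⟩))
            (by rw [map_mul, map_mul, map_mul]; exact h)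
          simpa using h0
        have hk : π (b * (a * a)⁻¹) = 1 := by
          rw [map_mul, map_inv, map_mul, hae, hbe, h1, mul_inv_cancel]
        have hc := hkc _ hk a
        calc a * b = a * (b * (a * a)⁻¹) * (a * a) := by group
          _ = (b * (a * a)⁻¹) * a * (a * a) := by rw [hc]
          _ = b * a := by group
    · obtain ⟨φ⟩ := hiso i
      obtain ⟨T, hT1, hT2⟩ := sl22_invert (φ ⟨e, he⟩)
      obtain ⟨τ, hτ⟩ : ∃ τ : E i, φ τ = T := ⟨φ.symm T, φ.apply_symm_apply T⟩
      have hτ1 : (τ : Y) * τ = 1 := by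
        have h0 : τ * τ = 1 := by
          apply φ.injective
          rw [map_mul, map_one, hτ]
          exact hT1
        have h00 := congrArg Subtype.val h0
        simpa using h00
      have hτ2 : (τ : Y) * (e * e) * τ * (e * e) = 1 := by
        have h0 : τ * (⟨e, he⟩ * ⟨e, he⟩) * τ * (⟨e, he⟩ * ⟨e, he⟩) = 1 := by
          apply φ.injective
          simp only [map_mul, map_one, hτ]
          exact hT2
        have h00 := congrArg Subtype.val h0
        simpa using h00
      have hτinv : (τ : Y)⁻¹ = τ := inv_eq_of_mul_eq_one_left hτ1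
      obtain ⟨t', ht'⟩ := hEH i τ.2
      have hn : orderOf t' ≠ 0 := (orderOf_pos t').ne'
      obtain ⟨k, m, hm, hkm⟩ := Nat.exists_eq_two_pow_mul_odd hn
      obtain ⟨t, ht⟩ : ∃ t : G₁, t = t' ^ m := ⟨_, rfl⟩
      have ht2 : t ^ (2 ^ k) = 1 := by
        rw [ht, ← pow_mul, mul_comm, ← hkm, pow_orderOf_eq_one]
      have hπt : π t = τ := by
        rw [ht, map_pow, ht']
        obtain ⟨l, rfl⟩ := hm
        rw [pow_succ, pow_mul, pow_two, hτ1, one_pow, one_mul]
      -- (1): `g` commutes with `t` when the images commute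
      have h1 : ∀ g : G₁, π g * τ = τ * π g → g * t = t * g := by
        intro g hg
        obtain ⟨w, hwdef⟩ : ∃ w : G₁, w = g * t * g⁻¹ * t⁻¹ := ⟨_, rfl⟩
        have hw : π w = 1 := by
          rw [hwdef, map_mul, map_mul, map_mul, map_inv, map_inv, hπt, hg]
          group
        have hwc := hkc _ hw
        have e1 : w * t = g * t * g⁻¹ := by rw [hwdef]; group
        have e2 : (w * t) ^ (2 ^ k) = w ^ (2 ^ k) * t ^ (2 ^ k) :=
          Commute.mul_pow (hwc t).symm _
        have e3 : (g * t * g⁻¹) ^ (2 ^ k) = 1 := by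
          rw [conj_pow, ht2]
          group
        rw [e1, e3, ht2, mul_one] at e2
        have hw1 := hk1 _ hw k e2.symm
        calc g * t = (g * t * g⁻¹ * t⁻¹) * (t * g) := by group
          _ = t * g := by rw [← hwdef, hw1, one_mul]
      have hbt : b * t = t * b := by
        apply h1
        rw [hbe]
        exact (hcomm2 i j hij τ τ.2 e' he').symm
      obtain ⟨z, hzdef⟩ : ∃ z : G₁, z = a * b * a⁻¹ * b⁻¹ := ⟨_, rfl⟩
      have hz : π z = 1 := by
        rw [hzdef, map_mul, map_mul, map_mul, map_inv, map_inv, hae, hbe]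
        have hc : e * e * (e' * e') = e' * e' * (e * e) :=
          hcomm2 i j hij (e * e) ((E i).mul_mem he he) e' he'
        rw [hc]
        group
      have hzc := hkc _ hz
      obtain ⟨k0, hk0def⟩ : ∃ k0 : G₁, k0 = a * (t * a * t⁻¹) := ⟨_, rfl⟩
      have hk0 : π k0 = 1 := by
        rw [hk0def, map_mul, map_mul, map_mul, map_inv, hπt, hae, hτinv]
        have e1 : (e * e) * (τ * (e * e) * τ)
            = (e * e) * (τ * (e * e) * τ * (e * e)) * (e * e)⁻¹ := by group
        rw [e1, hτ2]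
        group
      have hk0c := hkc _ hk0
      have e1 : t * z * t⁻¹ = z := by
        rw [hzc t]
        group
      have e2 : t * z * t⁻¹ = z⁻¹ := by
        have hb' : t * b * t⁻¹ = b := by rw [← hbt]; group
        have ha' : t * a * t⁻¹ = a⁻¹ * k0 := by rw [hk0def]; group
        calc t * z * t⁻¹
            = (t * a * t⁻¹) * (t * b * t⁻¹) * (t * a * t⁻¹)⁻¹ * (t * b * t⁻¹)⁻¹ := by
              rw [hzdef]; group
          _ = (a⁻¹ * k0) * b * (a⁻¹ * k0)⁻¹ * b⁻¹ := by rw [ha', hb']
          _ = a⁻¹ * (k0 * b) * k0⁻¹ * a * b⁻¹ := by group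
          _ = a⁻¹ * (b * k0) * k0⁻¹ * a * b⁻¹ := by rw [hk0c b]
          _ = a⁻¹ * ((a * b * a⁻¹ * b⁻¹)⁻¹ * a) := by group
          _ = a⁻¹ * (z⁻¹ * a) := by rw [← hzdef]
          _ = a⁻¹ * (a * z⁻¹) := by
              have h5 : a * z⁻¹ = z⁻¹ * a := by
                have h6 := hzc a
                calc a * z⁻¹ = z⁻¹ * (z * a) * z⁻¹ := by group
                  _ = z⁻¹ * (a * z) * z⁻¹ := by rw [h6]
                  _ = z⁻¹ * a := by group
              rw [h5]
          _ = z⁻¹ := by group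
      have hz2 : z ^ (2 ^ 1) = 1 := by
        have h5 : z = z⁻¹ := e1.symm.trans e2
        rw [pow_one, pow_two]
        exact mul_eq_one_iff_eq_inv.mpr h5
      have hz1 := hk1 _ hz 1 hz2
      calc a * b = (a * b * a⁻¹ * b⁻¹) * (b * a) := by group
        _ = b * a := by rw [← hzdef, hz1, one_mul]
  have hgr : gens ⊆ (π.range : Set Y) := by
    intro s hs
    rw [hgens] at hs
    obtain ⟨i, e, he, rfl⟩ := hs
    exact π.range.mul_mem (hEH i he) (hEH i he)
  have hB : ∀ a : G₁, π a ∈ gens → ∀ b, π b ∈ Subgroup.closure gens → b * a = a * b :=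
    fun a ha => comm_closure π gens hker hgr a (fun a' ha' => hA a' a ha' ha)
  have hCc : ∀ b : G₁, π b ∈ Subgroup.closure gens →
      ∀ a, π a ∈ Subgroup.closure gens → a * b = b * a :=
    fun b hb => comm_closure π gens hker hgr b (fun a ha => (hB a ha b hb).symm)
  -- elements of odd order map into `S`
  have hodd' : ∀ z : G₁, Odd (orderOf z) → π z ∈ S := by
    intro z ho
    obtain ⟨m, hm⟩ := ho
    have e1 : z = (z * z) ^ (m + 1) := by
      rw [← pow_two, ← pow_mul]
      have e2 : 2 * (m + 1) = orderOf z + 1 := by omega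
      rw [e2, pow_succ, pow_orderOf_eq_one, one_mul]
    rw [e1, map_pow, map_mul]
    exact S.pow_mem (hC (π z) ⟨z, rfl⟩) _
  have hx := hodd' x hxo
  have hy := hodd' y hyo
  rw [hSdef] at hx hy
  exact hCc y hy x hx

example : Cfsg.Agent.H37.Sp.StCext.{u} := cext

end Cfsg.Agent.H73.Sp

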