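import Cfsg.Agent.H52.SrDefs

/-!
# SR-DEC (S2951 / S2952, SR mini-project)

`V ⊴ X` elementary abelian 2-group, `O ≤ K`, `O ≤ C_X(V)`, `|K : O| = 3`: then
`V = C_V(K) · [V, K]` and `[V, K] ∩ C(K) = 1`.  Proof: the norm map over `K / C_K(V)` (a group of
order 1 or 3).
-/

set_option autoImplicit false
open Cfsg

universe u

namespace Cfsg.Agent.H73.Sr

/-- SR-DEC. -/
theorem dec : Cfsg.Agent.H52.Sr.StDec.{u} := by
  classical
  intro X _ _ V K O hVn hV hOK hOC h3
  obtain ⟨hcomm, hexp⟩ := hV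
  have hsq : ∀ a : ↥V, a * a = 1 := fun a => Subtype.ext (by
    have := hexp a.1 a.2
    rw [pow_two] at this
    exact this)
  let _cg : CommGroup ↥V := { (inferInstance : Group ↥V) with
    mul_comm := fun a b => hcomm.is_comm.comm a b }
  let C' : Subgroup ↥K := (Subgroup.centralizer (V : Set X)).subgroupOf K
  have hC'n : C'.Normal := inferInstance
  have _fq : Fintype (↥K ⧸ C') := Fintype.ofFinite _
  have hodd : Odd (Fintype.card (↥K ⧸ C')) := by
    have h1 : (Subgroup.centralizer (V : Set X)).relIndex K ∣ O.relIndex K :=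
      Subgroup.relIndex_dvd_of_le_left K hOC
    rw [h3] at h1
    have h2 : Nat.card (↥K ⧸ C') ∣ 3 := h1
    rw [Nat.card_eq_fintype_card] at h2
    exact Odd.of_dvd_nat (by decide) h2
  let φ : ↥V → ↥K → ↥V := fun v k => ⟨(k : X) * v * (k : X)⁻¹, hVn.conj_mem v v.2 k⟩
  have hφ : ∀ (v : ↥V) (a b : ↥K), QuotientGroup.leftRel C' a b → φ v a = φ v b := by
    intro v a b hab
    rw [QuotientGroup.leftRel_apply] at hab
    have ho : ((a : X)⁻¹ * (b : X)) ∈ Subgroup.centralizer (V : Set X) := hab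
    have hcv := Subgroup.mem_centralizer_iff.mp ho (v : X) v.2
    apply Subtype.ext
    show (a : X) * v * (a : X)⁻¹ = (b : X) * v * (b : X)⁻¹
    have key : (b : X) * v * (b : X)⁻¹ =
        (a : X) * (((a : X)⁻¹ * (b : X)) * v * ((a : X)⁻¹ * (b : X))⁻¹) * (a : X)⁻¹ := by group
    rw [key, ← hcv, mul_inv_cancel_right]
  let f : ↥V → (↥K ⧸ C') → ↥V := fun v q => Quotient.liftOn' q (φ v) (hφ v)
  let Nf : ↥V → ↥V := fun v => ∏ q, f v q
  have hfmul : ∀ (v u : ↥V) (q : ↥K ⧸ C'), f (v * u) q = f v q * f u q := by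
    intro v u q
    induction q using QuotientGroup.induction_on with
    | H k =>
      apply Subtype.ext
      show (k : X) * ((v : X) * u) * (k : X)⁻¹ =
        (k : X) * v * (k : X)⁻¹ * ((k : X) * u * (k : X)⁻¹)
      group
  have hNmul : ∀ v u : ↥V, Nf (v * u) = Nf v * Nf u := by
    intro v u
    show ∏ q, f (v * u) q = (∏ q, f v q) * ∏ q, f u q
    rw [← Finset.prod_mul_distrib]
    exact Finset.prod_congr rfl (fun q _ => hfmul v u q)
  have hfconj : ∀ (v : ↥V) (k : ↥K) (q : ↥K ⧸ C'),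
      f (φ v k) q = f v (q * (QuotientGroup.mk k)) := by
    intro v k q
    induction q using QuotientGroup.induction_on with
    | H a =>
      apply Subtype.ext
      show (a : X) * ((k : X) * v * (k : X)⁻¹) * (a : X)⁻¹ =
        ((a : X) * (k : X)) * v * ((a : X) * (k : X))⁻¹
      group
  have hNconj : ∀ (v : ↥V) (k : ↥K), Nf (φ v k) = Nf v := by
    intro v k
    show ∏ q, f (φ v k) q = ∏ q, f v q
    rw [Finset.prod_congr rfl (fun q _ => hfconj v k q)]
    exact Fintype.prod_equiv (Equiv.mulRight (QuotientGroup.mk k)) _ _ (fun q => rfl)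
  have hfleft : ∀ (v : ↥V) (g : ↥K) (q : ↥K ⧸ C'),
      φ (f v q) g = f v ((QuotientGroup.mk g) * q) := by
    intro v g q
    induction q using QuotientGroup.induction_on with
    | H a =>
      apply Subtype.ext
      show (g : X) * ((a : X) * v * (a : X)⁻¹) * (g : X)⁻¹ =
        ((g : X) * (a : X)) * v * ((g : X) * (a : X))⁻¹
      group
  have hNleft : ∀ (v : ↥V) (g : ↥K), φ (Nf v) g = Nf v := by
    intro v g
    let cg : ↥V →* ↥V := MonoidHom.mk' (fun u => φ u g) (by
      intro a b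
      apply Subtype.ext
      show (g : X) * ((a : X) * b) * (g : X)⁻¹ =
        (g : X) * a * (g : X)⁻¹ * ((g : X) * b * (g : X)⁻¹)
      group)
    show cg (∏ q, f v q) = ∏ q, f v q
    rw [map_prod]
    have : ∀ q, cg (f v q) = f v ((QuotientGroup.mk g) * q) := fun q => hfleft v g q
    rw [Finset.prod_congr rfl (fun q _ => this q)]
    exact Fintype.prod_equiv (Equiv.mulLeft (QuotientGroup.mk g)) _ _ (fun q => rfl)
  have hNfix : ∀ u : ↥V, (u : X) ∈ Subgroup.centralizer (K : Set X) → Nf u = u := by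
    intro u hu
    have h1 : ∀ q, f u q = u := by
      intro q
      induction q using QuotientGroup.induction_on with
      | H a =>
        apply Subtype.ext
        show (a : X) * u * (a : X)⁻¹ = u
        have := Subgroup.mem_centralizer_iff.mp hu a a.2
        rw [this, mul_inv_cancel_right]
    show ∏ q, f u q = u
    rw [Finset.prod_congr rfl (fun q _ => h1 q), Finset.prod_const, Finset.card_univ]
    obtain ⟨m, hm⟩ := hodd
    rw [hm, pow_succ, pow_mul, pow_two, hsq u, one_pow, one_mul]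
  have hNdec : ∀ v : ↥V, ∃ w : ↥V, (w : X) ∈ ⁅V, K⁆ ∧ Nf v = v * w := by
    intro v
    let q0 : ↥K ⧸ C' := QuotientGroup.mk 1
    let E := (Finset.univ : Finset (↥K ⧸ C')).erase q0
    refine ⟨∏ q ∈ E, f v q, ?_, ?_⟩
    · have hcardE : Even E.card := by
        show Even ((Finset.univ : Finset (↥K ⧸ C')).erase q0).card
        rw [Finset.card_erase_of_mem (Finset.mem_univ _), Finset.card_univ]
        obtain ⟨m, hm⟩ := hodd
        rw [hm]
        simp
      have h1 : ∏ q ∈ E, f v q = ∏ q ∈ E, (f v q * v⁻¹) := by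
        rw [Finset.prod_mul_distrib, Finset.prod_const]
        obtain ⟨m, hm⟩ := hcardE
        have : v⁻¹ ^ E.card = 1 := by
          rw [hm, ← two_mul, pow_mul, pow_two, ← mul_inv_rev, hsq v, inv_one, one_pow]
        rw [this, mul_one]
      rw [h1]
      have h2 : ∏ q ∈ E, (f v q * v⁻¹) ∈ (⁅V, K⁆).subgroupOf V := by
        apply Subgroup.prod_mem
        intro q _
        induction q using QuotientGroup.induction_on with
        | H a =>
          rw [Subgroup.mem_subgroupOf]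
          show (a : X) * v * (a : X)⁻¹ * (v : X)⁻¹ ∈ ⁅V, K⁆
          rw [Subgroup.commutator_comm]
          exact Subgroup.commutator_mem_commutator a.2 v.2
      exact Subgroup.mem_subgroupOf.mp h2
    · show ∏ q, f v q = v * ∏ q ∈ E, f v q
      rw [← Finset.mul_prod_erase Finset.univ (f v) (Finset.mem_univ q0)]
      congr 1
      apply Subtype.ext
      show ((1 : ↥K) : X) * v * ((1 : ↥K) : X)⁻¹ = v
      simp
  constructor
  · intro v hv
    obtain ⟨w, hw, hNw⟩ := hNdec ⟨v, hv⟩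
    refine ⟨(Nf ⟨v, hv⟩ : ↥V), (Nf ⟨v, hv⟩).2, w, hw, ?_, ?_⟩
    · have : (⟨v, hv⟩ : ↥V) = Nf ⟨v, hv⟩ * w := by
        rw [hNw, mul_assoc, hsq w, mul_one]
      exact congrArg Subtype.val this
    · rw [Subgroup.mem_centralizer_iff]
      intro k hk
      have h' : k * (Nf ⟨v, hv⟩ : X) * k⁻¹ = (Nf ⟨v, hv⟩ : X) :=
        congrArg Subtype.val (hNleft ⟨v, hv⟩ ⟨k, hk⟩)
      calc k * (Nf ⟨v, hv⟩ : X) = k * (Nf ⟨v, hv⟩ : X) * k⁻¹ * k := by group
        _ = (Nf ⟨v, hv⟩ : X) * k := by rw [h']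
  · rw [eq_bot_iff]
    intro u hu
    obtain ⟨huW, huC⟩ := hu
    have huV : u ∈ V := Subgroup.commutator_le_left V K huW
    have h1 := hNfix ⟨u, huV⟩ huC
    let NfHom : ↥V →* ↥V := MonoidHom.mk' Nf hNmul
    have hker : ⁅V, K⁆ ≤ (NfHom.ker).map V.subtype := by
      rw [Subgroup.commutator_le]
      intro v hv k hk
      refine ⟨(⟨v, hv⟩ : ↥V) * φ (⟨v, hv⟩⁻¹) ⟨k, hk⟩, ?_, ?_⟩
      · rw [SetLike.mem_coe, MonoidHom.mem_ker]
        show Nf ((⟨v, hv⟩ : ↥V) * φ (⟨v, hv⟩⁻¹) ⟨k, hk⟩) = 1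
        rw [hNmul, hNconj, ← hNmul, mul_inv_cancel]
        exact map_one NfHom
      · show v * (k * v⁻¹ * k⁻¹) = v * k * v⁻¹ * k⁻¹
        group
    obtain ⟨u', hu'ker, hu'e⟩ := hker huW
    have hu'1 : Nf u' = 1 := hu'ker
    have hu'u : u' = ⟨u, huV⟩ := Subtype.ext hu'e
    rw [Subgroup.mem_bot]
    have : (⟨u, huV⟩ : ↥V) = 1 := by rw [← h1, ← hu'u]; exact hu'1
    exact congrArg Subtype.val this

end Cfsg.Agent.H73.Sr

example : Cfsg.Agent.H52.Sr.StDec.{u} := Cfsg.Agent.H73.Sr.dec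

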