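import Cfsg.Agent.H52.SrDefs

/-!
# SR-FIX (S2951 / S2952, SR mini-project)

A 2-group normalizing a nontrivial 2-subgroup centralizes a nontrivial element of it.
-/

set_option autoImplicit false
open Cfsg

universe u

namespace Cfsg.Agent.H73.Sr

/-- SR-FIX. -/
theorem fix : Cfsg.Agent.H52.Sr.StFix.{u} := by
  intro X _ _ T U hT hU hTU hU1
  let _inst : MulAction ↥T ↥U :=
    { smul := fun t u => ⟨(t : X) * u * (t : X)⁻¹,
        ((Subgroup.mem_normalizer_iff.mp (hTU t.2)) u).mp u.2⟩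
      one_smul := fun u => Subtype.ext (by
        show ((1 : ↥T) : X) * u * ((1 : ↥T) : X)⁻¹ = u
        simp)
      mul_smul := fun a b u => Subtype.ext (by
        show ((a * b : ↥T) : X) * u * ((a * b : ↥T) : X)⁻¹ =
          (a : X) * ((b : X) * u * (b : X)⁻¹) * (a : X)⁻¹
        simp [mul_assoc]) }
  have _hp2 : Fact (Nat.Prime 2) := ⟨Nat.prime_two⟩
  have hdvd : 2 ∣ Nat.card ↥U := by
    rcases hU.card_eq_or_dvd with h | h
    · exact absurd (Subgroup.card_eq_one.mp h) hU1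
    · exact h
  have h1 : (1 : ↥U) ∈ MulAction.fixedPoints ↥T ↥U := by
    intro t
    apply Subtype.ext
    show (t : X) * ((1 : ↥U) : X) * (t : X)⁻¹ = ((1 : ↥U) : X)
    simp
  obtain ⟨b, hb, hne⟩ := hT.exists_fixed_point_of_prime_dvd_card_of_fixed_point (↥U) hdvd h1
  refine ⟨b, b.2, ?_, ?_⟩
  · intro h
    apply hne
    exact Subtype.ext h.symm
  · rw [Subgroup.mem_centralizer_iff]
    intro t ht
    have h2 : t * (b : X) * t⁻¹ = b := congrArg Subtype.val (hb ⟨t, ht⟩)
    calc t * (b : X) = t * (b : X) * t⁻¹ * t := by group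
      _ = (b : X) * t := by rw [h2]

end Cfsg.Agent.H73.Sr

example : Cfsg.Agent.H52.Sr.StFix.{u} := Cfsg.Agent.H73.Sr.fix

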