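import Mathlib
import Cfsg.Prelude.Def_Characters
import Cfsg.Agent.H88.StNDefs
import Cfsg.Agent.H48.StOONE
import Cfsg.Agent.H12.StO1
import Cfsg.Agent.S0306
import Cfsg.Agent.S0300
import Cfsg.Agent.S0303
import Cfsg.Agent.S2544
import Cfsg.Agent.S2546

/-!
helper73: piece S2549-SMALL for helper88: the Steinberg character of `PΩ⁻_{2m+2}(q)` for `m ≤ 2`,
through the exceptional isomorphisms (`GO⁻_2(q)` dihedral, `PΩ⁻_4(q) ≅ PSL_2(q²)`,
`PΩ⁻_6(q) ≅ PSU_4(q)`).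
-/

set_option autoImplicit false

namespace Cfsg.Agent.H73.StN

open Matrix Cfsg.Agent.H88.StN

variable {F : Type*} [Field F]

theorem pomega_minus_zero_subsingleton [Fintype F] (a b : F)
    (hab : ∀ z₁ z₂ : F, z₁ ^ 2 + a * z₁ * z₂ + b * z₂ ^ 2 = 0 → z₁ = 0 ∧ z₂ = 0) :
    Subsingleton (Cfsg.POmega F (Cfsg.quadFormMinus 0 F a b)) := by
  obtain ⟨e⟩ := Cfsg.Agent.S0306.result (F := F) (q := Fintype.card F) rfl a b hab
  have hcomm : ∀ x y : ↥(Cfsg.Omega F (Cfsg.quadFormMinus 0 F a b)), x * y = y * x := by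
    intro x y
    apply Subtype.ext
    exact Cfsg.Agent.H48.StO.commutator_comm_of_dihedral _ e x.1 y.1 x.2 y.2
  have htop : Subgroup.center ↥(Cfsg.Omega F (Cfsg.quadFormMinus 0 F a b)) = ⊤ := by
    rw [eq_top_iff]
    intro x _
    rw [Subgroup.mem_center_iff]
    intro y
    exact hcomm y x
  refine ⟨fun a b => ?_⟩
  obtain ⟨a, rfl⟩ := QuotientGroup.mk_surjective a
  obtain ⟨b, rfl⟩ := QuotientGroup.mk_surjective b
  rw [QuotientGroup.eq, htop]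
  exact Subgroup.mem_top _

theorem ominus_steinberg_zero [Fintype F] (p : ℕ) [Fact p.Prime] [CharP F p] (a b : F)
    (hab : ∀ z₁ z₂ : F, z₁ ^ 2 + a * z₁ * z₂ + b * z₂ ^ 2 = 0 → z₁ = 0 ∧ z₂ = 0) :
    ∃ χ : Cfsg.POmega F (Cfsg.quadFormMinus 0 F a b) → ℂ,
      Cfsg.IsIrrCharacter (Cfsg.POmega F (Cfsg.quadFormMinus 0 F a b)) χ ∧
      ∀ P : Sylow p (Cfsg.POmega F (Cfsg.quadFormMinus 0 F a b)), χ 1 = Nat.card P ∧
        ∀ x : Cfsg.POmega F (Cfsg.quadFormMinus 0 F a b), x ∈ P → x ≠ 1 → χ x = 0 := by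
  have hsub : Subsingleton (Cfsg.POmega F (Cfsg.quadFormMinus 0 F a b)) :=
    pomega_minus_zero_subsingleton a b hab
  refine ⟨fun _ => 1, Cfsg.Agent.H4.isIrrCharacter_one, fun P => ⟨?_, ?_⟩⟩
  · have h1 : Nat.card (P : Subgroup (Cfsg.POmega F (Cfsg.quadFormMinus 0 F a b))) = 1 := by
      rw [Nat.card_eq_one_iff_unique]
      exact ⟨⟨fun a b => Subtype.ext (Subsingleton.elim _ _)⟩, ⟨1⟩⟩
    rw [h1, Nat.cast_one]
  · intro x _ hx
    exact absurd (Subsingleton.elim x 1) hx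

/-- a finite field of characteristic `p` has a quadratic extension, as a finite field of
characteristic `p` of the square of its cardinality. -/
theorem exists_quadratic_field [Fintype F] (p : ℕ) [Fact p.Prime] [CharP F p] :
    ∃ (K : Type) (_ : Field K) (_ : Fintype K) (_ : CharP K p),
      Fintype.card K = Fintype.card F ^ 2 := by
  obtain ⟨⟨k, hk⟩, -, hc⟩ := FiniteField.card F p
  have hc' : Fintype.card F = p ^ k := hc
  have hk0 : (2 * k) ≠ 0 := by omega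
  have : Fintype (GaloisField p (2 * k)) := Fintype.ofFinite _
  refine ⟨GaloisField p (2 * k), inferInstance, this, inferInstance, ?_⟩
  rw [hc', ← Nat.card_eq_fintype_card, GaloisField.card p (2 * k) hk0, ← pow_mul]
  congr 1
  ring

theorem ominus_steinberg_one [Fintype F] (p : ℕ) [Fact p.Prime] [CharP F p] (a b : F)
    (hab : ∀ z₁ z₂ : F, z₁ ^ 2 + a * z₁ * z₂ + b * z₂ ^ 2 = 0 → z₁ = 0 ∧ z₂ = 0) :
    ∃ χ : Cfsg.POmega F (Cfsg.quadFormMinus 1 F a b) → ℂ,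
      Cfsg.IsIrrCharacter (Cfsg.POmega F (Cfsg.quadFormMinus 1 F a b)) χ ∧
      ∀ P : Sylow p (Cfsg.POmega F (Cfsg.quadFormMinus 1 F a b)), χ 1 = Nat.card P ∧
        ∀ x : Cfsg.POmega F (Cfsg.quadFormMinus 1 F a b), x ∈ P → x ≠ 1 → χ x = 0 := by
  obtain ⟨K, iK, iF, iC, hK⟩ := exists_quadratic_field (F := F) p
  obtain ⟨e⟩ := Cfsg.Agent.S0300.result (F := F) (K := K) (q := Fintype.card F) rfl hK a b hab
  exact Cfsg.Agent.H12.StO.steinberg_of_equiv e p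
    (Cfsg.Agent.S2544.result (F := K) p 2 (le_refl 2))

theorem ominus_steinberg_two [Fintype F] (p : ℕ) [Fact p.Prime] [CharP F p] (a b : F)
    (hab : ∀ z₁ z₂ : F, z₁ ^ 2 + a * z₁ * z₂ + b * z₂ ^ 2 = 0 → z₁ = 0 ∧ z₂ = 0) :
    ∃ χ : Cfsg.POmega F (Cfsg.quadFormMinus 2 F a b) → ℂ,
      Cfsg.IsIrrCharacter (Cfsg.POmega F (Cfsg.quadFormMinus 2 F a b)) χ ∧
      ∀ P : Sylow p (Cfsg.POmega F (Cfsg.quadFormMinus 2 F a b)), χ 1 = Nat.card P ∧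
        ∀ x : Cfsg.POmega F (Cfsg.quadFormMinus 2 F a b), x ∈ P → x ≠ 1 → χ x = 0 := by
  obtain ⟨K, iK, iF, iC, hK⟩ := exists_quadratic_field (F := F) p
  obtain ⟨e⟩ := Cfsg.Agent.S0303.result (F := F) (K := K) (q := Fintype.card F) rfl hK a b hab
  exact Cfsg.Agent.H12.StO.steinberg_of_equiv e p
    (Cfsg.Agent.S2546.result (F := K) p 4 (Fintype.card F) (by norm_num) hK)

/-- **S2549-SMALL** -/
theorem ominus_steinberg_small [Fintype F] (p : ℕ) [Fact p.Prime] [CharP F p] (m : ℕ) (hm : m ≤ 2) (a b : F) (hab : ∀ z₁ z₂ : F, z₁ ^ 2 + a * z₁ * z₂ + b * z₂ ^ 2 = 0 → z₁ = 0 ∧ z₂ = 0) : ∃ χ : Cfsg.POmega F (Cfsg.quadFormMinus m F a b) → ℂ, Cfsg.IsIrrCharacter (Cfsg.POmega F (Cfsg.quadFormMinus m F a b)) χ ∧ ∀ P : Sylow p (Cfsg.POmega F (Cfsg.quadFormMinus m F a b)), χ 1 = Nat.card P ∧ ∀ x : Cfsg.POmega F (Cfsg.quadFormMinus m F a b), x ∈ P → x ≠ 1 → χ x = 0 := by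
  interval_cases m
  · exact ominus_steinberg_zero p a b hab
  · exact ominus_steinberg_one p a b hab
  · exact ominus_steinberg_two p a b hab

example [Fintype F] (p : ℕ) [Fact p.Prime] [CharP F p] (m : ℕ) (hm : m ≤ 2) (a b : F) (hab : ∀ z₁ z₂ : F, z₁ ^ 2 + a * z₁ * z₂ + b * z₂ ^ 2 = 0 → z₁ = 0 ∧ z₂ = 0) : ∃ χ : Cfsg.POmega F (Cfsg.quadFormMinus m F a b) → ℂ, Cfsg.IsIrrCharacter (Cfsg.POmega F (Cfsg.quadFormMinus m F a b)) χ ∧ ∀ P : Sylow p (Cfsg.POmega F (Cfsg.quadFormMinus m F a b)), χ 1 = Nat.card P ∧ ∀ x : Cfsg.POmega F (Cfsg.quadFormMinus m F a b), x ∈ P → x ≠ 1 → χ x = 0 :=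
  ominus_steinberg_small p m hm a b hab

end Cfsg.Agent.H73.StN

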