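import Mathlib

/-!
# SD-ALG core (helper73, for helper23's S2156 project): pure field theory

Additive bijections `φ_i` of a finite field, normalised, compatible with inversion and related along
the edges of a Dynkin diagram twisted by a symmetry `π`, all come from one field automorphism.
The hypothesis `hLS` is the corrected one: in the all-short case the two base points must be equal
or adjacent.
-/

set_option autoImplicit false

namespace Cfsg.Agent.H73.StbD

universe u

/-- An additive bijection which is multiplicative is a ring automorphism. -/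
theorem exists_ringEquiv {F : Type u} [Field F] (φ : F ≃+ F)
    (h : ∀ a u : F, φ (a * u) = φ a * φ u) : ∃ σ : F ≃+* F, ∀ t, σ t = φ t :=
  ⟨{ φ with map_mul' := h }, fun _ => rfl⟩

/-- Along an edge `i → j` on which the Cartan integer is `-1` before and after `π`, `φ_j = φ_i`. -/
theorem edge_eq {F : Type u} [Field F] (l : ℕ) (A : ℕ → ℕ → ℤ) (long : ℕ → Bool) (c : ℕ)
    (π : ℕ → ℕ) (φ : ℕ → F ≃+ F)
    (hA : ∀ i < l, ∀ j < l, i ≠ j → A j i ≠ 0 →
      A j i = if long i && !long j then -(c : ℤ) else -1)
    (hπ : ∀ i < l, π i < l) (hπinj : ∀ i < l, ∀ j < l, π i = π j → i = j)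
    (hπadj : ∀ i < l, ∀ j < l, i ≠ j → (A (π j) (π i) ≠ 0 ↔ A j i ≠ 0))
    (hφ1 : ∀ i < l, φ i 1 = 1) (hφinv : ∀ i < l, ∀ a : F, a ≠ 0 → φ i a⁻¹ = (φ i a)⁻¹)
    (hR : ∀ i < l, ∀ j < l, ∀ a : F, a ≠ 0 → ∀ u : F,
      φ i (a ^ A j i * u) = (φ j a) ^ A (π j) (π i) * φ i u)
    (i j : ℕ) (hi : i < l) (hj : j < l) (hij : i ≠ j) (hAji : A j i ≠ 0)
    (h1 : (long i && !long j) = false) (h2 : (long (π i) && !long (π j)) = false) :
    φ j = φ i := by
  have e1 : A j i = -1 := by
    have := hA i hi j hj hij hAji
    rw [h1] at this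
    simpa using this
  have hπij : π i ≠ π j := fun h => hij (hπinj i hi j hj h)
  have e2 : A (π j) (π i) = -1 := by
    have := hA (π i) (hπ i hi) (π j) (hπ j hj) hπij ((hπadj i hi j hj hij).mpr hAji)
    rw [h2] at this
    simpa using this
  apply AddEquiv.ext
  intro a
  by_cases ha : a = 0
  · subst ha; simp
  · have := hR i hi j hj a ha 1
    rw [e1, e2, mul_one, hφ1 i hi, mul_one, zpow_neg_one, zpow_neg_one, hφinv i hi a ha] at this
    exact (inv_injective this).symm

/-- **SD-ALG core.** -/
theorem alg_core {F : Type u} [Field F] [Finite F] (l : ℕ) (A : ℕ → ℕ → ℤ) (long : ℕ → Bool)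
    (c bL bS : ℕ) (π : ℕ → ℕ) (φ : ℕ → F ≃+ F)
    (hc : c = 2 ∨ c = 3)
    (hA : ∀ i < l, ∀ j < l, i ≠ j → A j i ≠ 0 →
      A j i = if long i && !long j then -(c : ℤ) else -1)
    (hbL : bL < l) (hbS : bS < l)
    (hConn : ∀ P : ℕ → Prop, P bS → P bL →
      (∀ i < l, ∀ j < l, i ≠ j → A j i ≠ 0 → long i = long j → P i → P j) → ∀ i < l, P i)
    (hLS : (long bL = true ∧ long bS = false ∧ A bS bL ≠ 0 ∧ A bL bS ≠ 0) ∨
      ((∀ i < l, long i = false) ∧ (bL = bS ∨ A bL bS ≠ 0)))
    (hEdge : ∃ i < l, ∃ j < l, i ≠ j ∧ A j i = -1)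
    (hπ : ∀ i < l, π i < l) (hπinj : ∀ i < l, ∀ j < l, π i = π j → i = j)
    (hπadj : ∀ i < l, ∀ j < l, i ≠ j → (A (π j) (π i) ≠ 0 ↔ A j i ≠ 0))
    (hπlen : (∀ i < l, long (π i) = long i) ∨ (∀ i < l, long (π i) = !long i))
    (hφ1 : ∀ i < l, φ i 1 = 1) (hφinv : ∀ i < l, ∀ a : F, a ≠ 0 → φ i a⁻¹ = (φ i a)⁻¹)
    (hR : ∀ i < l, ∀ j < l, ∀ a : F, a ≠ 0 → ∀ u : F,
      φ i (a ^ A j i * u) = (φ j a) ^ A (π j) (π i) * φ i u) :
    ∃ σ : F ≃+* F, ∀ i < l, ∀ t : F,
      φ i t = σ t ^ (if long (π i) && !long i then ringChar F else 1) := by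
  have hEq := edge_eq l A long c π φ hA hπ hπinj hπadj hφ1 hφinv hR
  rcases hπlen with hP | hRv
  · -- length preserving
    have hLS' : φ bL = φ bS := by
      rcases hLS with ⟨h1, h2, h3, h4⟩ | ⟨h1, h2⟩
      · have hne : bS ≠ bL := by
          rintro h; rw [h] at h2; rw [h1] at h2; exact Bool.noConfusion h2
        exact hEq bS bL hbS hbL hne h4 (by rw [h2]; rfl) (by rw [hP bS hbS, h2]; rfl)
      · by_cases hne : bS = bL
        · rw [hne]
        · rcases h2 with h2 | h2
          · exact absurd h2.symm hne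
          · exact hEq bS bL hbS hbL hne h2 (by rw [h1 bS hbS]; rfl)
              (by rw [hP bS hbS, h1 bS hbS]; rfl)
    have hall : ∀ i < l, φ i = φ bS := by
      refine hConn (fun i => φ i = φ bS) rfl hLS' ?_
      intro i hi j hj hij hAji hlen hPi
      have := hEq i j hi hj hij hAji (by rw [hlen]; cases long j <;> rfl)
        (by rw [hP i hi, hP j hj, hlen]; cases long j <;> rfl)
      show φ j = φ bS
      rw [this, hPi]
    obtain ⟨i, hi, j, hj, hij, hAji⟩ := hEdge
    have hAji0 : A j i ≠ 0 := by rw [hAji]; decide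
    have hπij : π i ≠ π j := fun h => hij (hπinj i hi j hj h)
    have e2 : A (π j) (π i) = -1 := by
      have h1 := hA i hi j hj hij hAji0
      have h2 := hA (π i) (hπ i hi) (π j) (hπ j hj) hπij ((hπadj i hi j hj hij).mpr hAji0)
      rw [hP i hi, hP j hj] at h2
      rw [h2, ← h1, hAji]
    have hmul : ∀ a u : F, φ bS (a * u) = φ bS a * φ bS u := by
      intro a u
      by_cases ha : a = 0
      · subst ha; simp
      · have ha' : a⁻¹ ≠ 0 := inv_ne_zero ha
        have := hR i hi j hj a⁻¹ ha' u
        rw [hAji, e2, hall i hi, hall j hj, zpow_neg_one, zpow_neg_one, inv_inv,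
          hφinv bS hbS a ha, inv_inv] at this
        exact this
    obtain ⟨σ, hσ⟩ := exists_ringEquiv (φ bS) hmul
    refine ⟨σ, fun i hi t => ?_⟩
    have : (long (π i) && !long i) = false := by rw [hP i hi]; cases long i <;> rfl
    rw [this, hσ, hall i hi]
    simp
  · -- length reversing
    rcases hLS with ⟨h1, h2, h3, h4⟩ | ⟨h1, _⟩
    swap
    · exfalso
      have := hRv bL hbL
      rw [h1 bL hbL, h1 (π bL) (hπ bL hbL)] at this
      exact Bool.noConfusion this
    have hne : bS ≠ bL := by
      rintro h; rw [h] at h2; rw [h1] at h2; exact Bool.noConfusion h2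
    have hπL : long (π bL) = false := by rw [hRv bL hbL, h1]; rfl
    have hπS : long (π bS) = true := by rw [hRv bS hbS, h2]; rfl
    have a1 : A bL bS = -1 := by
      have := hA bS hbS bL hbL hne h4
      rw [h2] at this; simpa using this
    have a2 : A bS bL = -(c : ℤ) := by
      have := hA bL hbL bS hbS (Ne.symm hne) h3
      rw [h1, h2] at this; simpa using this
    have hπne : π bS ≠ π bL := fun h => hne (hπinj bS hbS bL hbL h)
    have a3 : A (π bL) (π bS) = -(c : ℤ) := by
      have := hA (π bS) (hπ bS hbS) (π bL) (hπ bL hbL) hπne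
        ((hπadj bS hbS bL hbL hne).mpr h4)
      rw [hπS, hπL] at this; simpa using this
    have a4 : A (π bS) (π bL) = -1 := by
      have := hA (π bL) (hπ bL hbL) (π bS) (hπ bS hbS) (Ne.symm hπne)
        ((hπadj bL hbL bS hbS (Ne.symm hne)).mpr h3)
      rw [hπL] at this; simpa using this
    have hc0 : c ≠ 0 := by rcases hc with rfl | rfl <;> decide
    have E1 : ∀ a : F, φ bS a = (φ bL a) ^ c := by
      intro a
      by_cases ha : a = 0
      · subst ha; simp [hc0]
      · have := hR bS hbS bL hbL a ha 1
        rw [a1, a3, mul_one, hφ1 bS hbS, mul_one, zpow_neg_one, hφinv bS hbS a ha, zpow_neg,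
          zpow_natCast] at this
        exact inv_injective this
    have E2 : ∀ a u : F, φ bL (a ^ c * u) = (φ bL a) ^ c * φ bL u := by
      intro a u
      by_cases ha : a = 0
      · subst ha; simp [hc0]
      · have ha' : a⁻¹ ≠ 0 := inv_ne_zero ha
        have := hR bL hbL bS hbS a⁻¹ ha' u
        rw [a2, a4, zpow_neg_one, hφinv bS hbS a ha, inv_inv, zpow_neg, inv_zpow, inv_inv,
          zpow_natCast, E1 a] at this
        exact this
    have E3 : ∀ x y : F, (x + y) ^ c = x ^ c + y ^ c := by
      intro x y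
      obtain ⟨a, rfl⟩ := (φ bL).surjective x
      obtain ⟨b, rfl⟩ := (φ bL).surjective y
      rw [← map_add, ← E1, ← E1, ← E1, map_add]
    have hinj : Function.Injective (fun x : F => x ^ c) := by
      intro x y hxy
      have hxy' : x ^ c = y ^ c := hxy
      have h := E3 (x - y) y
      rw [sub_add_cancel, hxy'] at h
      have h0 : (x - y) ^ c = 0 := by
        have : (x - y) ^ c + y ^ c = 0 + y ^ c := by rw [zero_add]; exact h.symm
        exact add_right_cancel this
      exact sub_eq_zero.mp ((pow_eq_zero_iff hc0).mp h0)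
    have hsurj : Function.Surjective (fun x : F => x ^ c) :=
      Finite.injective_iff_surjective.mp hinj
    have hmul : ∀ b u : F, φ bL (b * u) = φ bL b * φ bL u := by
      intro b u
      obtain ⟨a, rfl⟩ := hsurj b
      have h1' := E2 a 1
      rw [mul_one, hφ1 bL hbL, mul_one] at h1'
      show φ bL (a ^ c * u) = φ bL (a ^ c) * φ bL u
      rw [h1', E2]
    obtain ⟨σ, hσ⟩ := exists_ringEquiv (φ bL) hmul
    have E4 : ∀ x : F, x ^ c = x ^ ringChar F := by
      have hchar : ringChar F ≠ 1 := CharP.ringChar_ne_one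
      rcases hc with rfl | rfl
      · have h := E3 1 1
        have h2 : ((2 : ℕ) : F) = 0 := by
          push_cast
          linear_combination h
        have hd : ringChar F ∣ 2 := (ringChar.spec F 2).mp h2
        rcases (Nat.dvd_prime Nat.prime_two).mp hd with h | h
        · exact absurd h hchar
        · intro x; rw [h]
      · have h := E3 1 1
        have h6 : ((6 : ℕ) : F) = 0 := by
          push_cast
          linear_combination h
        have hd : ringChar F ∣ 6 := (ringChar.spec F 6).mp h6
        have hp : (ringChar F).Prime := by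
          rcases CharP.char_is_prime_or_zero F (ringChar F) with h | h
          · exact h
          · rw [h] at hd; omega
        have hd' : ringChar F ∣ 2 * 3 := hd
        rcases (Nat.Prime.dvd_mul hp).mp hd' with h | h
        · have hp2 : ringChar F = 2 := (Nat.prime_dvd_prime_iff_eq hp Nat.prime_two).mp h
          have h2 : (2 : F) = 0 := by
            have := (ringChar.spec F 2).mpr (by rw [hp2])
            exact_mod_cast this
          intro x
          rw [hp2]
          have hx := E3 x 1
          have hx' : x * (x + 1) = 0 := by linear_combination hx - (x ^ 2 + x) * h2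
          rcases mul_eq_zero.mp hx' with h0 | h0
          · subst h0; simp
          · have : x = 1 := by linear_combination h0 - h2
            subst this; simp
        · have hp3 : ringChar F = 3 := (Nat.prime_dvd_prime_iff_eq hp Nat.prime_three).mp h
          intro x; rw [hp3]
    have hall : ∀ i < l, φ i = if long i then φ bL else φ bS := by
      refine hConn (fun i => φ i = if long i then φ bL else φ bS) (by simp [h2]) (by simp [h1]) ?_
      intro i hi j hj hij hAji hlen hPi
      have := hEq i j hi hj hij hAji (by rw [hlen]; cases long j <;> rfl)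
        (by rw [hRv i hi, hRv j hj, hlen]; cases long j <;> rfl)
      show φ j = if long j then φ bL else φ bS
      rw [this, hPi, hlen]
    refine ⟨σ, fun i hi t => ?_⟩
    rw [hall i hi, hRv i hi, hσ]
    cases hl : long i
    · show φ bS t = φ bL t ^ ringChar F
      rw [E1, E4]
    · simp

end Cfsg.Agent.H73.StbD

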