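import Mathlib
import Cfsg.Agent.H51.SyDefs
import Cfsg.Agent.H14.Thompson
import Cfsg.Agent.H73.SNQ

/-!
# S2949 (team project SY, helper51), piece SY-GENF2

Frattini in `J(X)`: a subgroup containing `N_X(J)` and the elements of odd order of `J(X)` is
everything.
-/

set_option autoImplicit false
open Cfsg

universe u

namespace Cfsg.Agent.H73.Sy

open Cfsg.Agent.H51.Sy

/-- The Thompson subgroup is normal. -/
theorem thompson_normal (p : ℕ) (G : Type u) [Group G] : (thompsonSubgroup p G).Normal := by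
  constructor
  intro n hn g
  have h1 : (thompsonSubgroup p G).map (MulAut.conj g).toMonoidHom ≤ thompsonSubgroup p G := by
    unfold Cfsg.thompsonSubgroup
    rw [Subgroup.map_le_iff_le_comap]
    apply sSup_le
    intro A hA
    rw [← Subgroup.map_le_iff_le_comap]
    exact le_sSup (Cfsg.Agent.H14.maxElAb_conj g hA)
  exact h1 ⟨n, hn, rfl⟩

/-- piece SY-GENF2 -/
theorem genF2 : StGenF2.{u} := by
  intro X _ _ T J M' hT hTodd hJT hJM hchar hNM hoddM
  have hMn : (thompsonSubgroup 2 X).Normal := thompson_normal 2 X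
  obtain ⟨Mx, hMx⟩ : ∃ Mx : Subgroup X, Mx = thompsonSubgroup 2 X := ⟨_, rfl⟩
  rw [← hMx] at hJM hoddM hMn
  have : Mx.Normal := hMn
  -- `T ≤ M'`
  have hTM : T ≤ M' := fun t ht => hNM (hchar T hJT le_rfl (Subgroup.le_normalizer ht))
  -- the subgroup generated by the elements of odd order
  obtain ⟨O, hO⟩ : ∃ O : Subgroup X,
      O = Subgroup.closure {g : X | g ∈ Mx ∧ Odd (orderOf g)} := ⟨_, rfl⟩
  have hOM : O ≤ M' := by
    rw [hO, Subgroup.closure_le]
    intro g hg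
    exact hoddM g hg.1 hg.2
  have hOn : O.Normal := by
    rw [hO]
    refine ⟨fun a ha g => ?_⟩
    induction ha using Subgroup.closure_induction with
    | mem y hy =>
      refine Subgroup.subset_closure ⟨hMn.conj_mem y hy.1 g, ?_⟩
      have h1 := orderOf_injective (MulAut.conj g).toMonoidHom (MulAut.conj g).injective y
      simp only [MulEquiv.coe_toMonoidHom, MulAut.conj_apply] at h1
      rw [h1]
      exact hy.2
    | one => simp
    | mul a b _ _ iha ihb =>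
      have h1 : g * (a * b) * g⁻¹ = (g * a * g⁻¹) * (g * b * g⁻¹) := by group
      rw [h1]
      exact mul_mem iha ihb
    | inv a _ iha =>
      have h1 : g * a⁻¹ * g⁻¹ = (g * a * g⁻¹)⁻¹ := by group
      rw [h1]
      exact inv_mem iha
  -- `Mx / O` is a 2-group
  have hpow : ∀ g ∈ Mx, ∃ k : ℕ, g ^ (2 ^ k) ∈ O := by
    intro g hg
    have hn : orderOf g ≠ 0 := (orderOf_pos g).ne'
    obtain ⟨k, m, hm, hkm⟩ := Nat.exists_eq_two_pow_mul_odd hn
    refine ⟨k, ?_⟩
    rw [hO]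
    apply Subgroup.subset_closure
    refine ⟨Mx.pow_mem hg _, ?_⟩
    have h1 : (g ^ (2 ^ k)) ^ m = 1 := by rw [← pow_mul, ← hkm, pow_orderOf_eq_one]
    exact Odd.of_dvd_nat hm (orderOf_dvd_of_pow_eq_one h1)
  have hQ : IsPGroup 2 (↥Mx ⧸ O.subgroupOf Mx) := by
    intro q
    obtain ⟨g, rfl⟩ := QuotientGroup.mk_surjective q
    obtain ⟨k, hk⟩ := hpow g.1 g.2
    refine ⟨k, ?_⟩
    rw [← QuotientGroup.mk_pow, QuotientGroup.eq_one_iff, Subgroup.mem_subgroupOf]
    exact hk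
  obtain ⟨n, hn⟩ := IsPGroup.iff_card.mp hQ
  have hOidx : (O.subgroupOf Mx).index = 2 ^ n := by
    rw [Subgroup.index_eq_card]
    exact hn
  -- `T ⊓ Mx` is a Sylow 2-subgroup of `Mx`
  have hTrel : Odd (T.relIndex Mx) := by
    have e1 := Cfsg.Agent.H73.SN.relIndex_sup_eq T Mx
    have e2 : T.relIndex (T ⊔ Mx) * (T ⊔ Mx).index = T.index :=
      Subgroup.relIndex_mul_index le_sup_left
    rw [← e1]
    exact Odd.of_dvd_nat hTodd (Dvd.intro _ e2)
  have hS'idx : Odd (T.subgroupOf Mx).index := hTrel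
  -- `O (T ⊓ Mx) = Mx`
  have hsup : O.subgroupOf Mx ⊔ T.subgroupOf Mx = ⊤ := by
    rw [← Subgroup.index_eq_one]
    have d1 : (O.subgroupOf Mx ⊔ T.subgroupOf Mx).index ∣ 2 ^ n :=
      hOidx ▸ Subgroup.index_dvd_of_le le_sup_left
    have d2 : (O.subgroupOf Mx ⊔ T.subgroupOf Mx).index ∣ (T.subgroupOf Mx).index :=
      Subgroup.index_dvd_of_le le_sup_right
    obtain ⟨j, _, hj2⟩ := (Nat.dvd_prime_pow Nat.prime_two).mp d1
    have hodd2 := Odd.of_dvd_nat hS'idx d2
    rw [hj2] at hodd2 ⊢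
    cases j with
    | zero => rfl
    | succ j =>
      exfalso
      rw [pow_succ] at hodd2
      exact (Nat.not_even_iff_odd.mpr hodd2) (even_two.mul_left _)
  have hMxM : Mx ≤ M' := by
    intro g hg
    have h1 : (⟨g, hg⟩ : ↥Mx) ∈ O.subgroupOf Mx ⊔ T.subgroupOf Mx := by
      rw [hsup]
      exact Subgroup.mem_top _
    have h2 : O.subgroupOf Mx ⊔ T.subgroupOf Mx ≤ M'.subgroupOf Mx :=
      sup_le (fun x hx => Subgroup.mem_subgroupOf.mpr (hOM (Subgroup.mem_subgroupOf.mp hx)))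
        (fun x hx => Subgroup.mem_subgroupOf.mpr (hTM (Subgroup.mem_subgroupOf.mp hx)))
    exact Subgroup.mem_subgroupOf.mp (h2 h1)
  -- Frattini
  have hSyl2 : IsPGroup 2 ↥(T.subgroupOf Mx) := hT.comap_subtype
  have hnd : ¬ 2 ∣ (T.subgroupOf Mx).index := fun h0 =>
    (Nat.not_even_iff_odd.mpr hS'idx) (even_iff_two_dvd.mpr h0)
  obtain ⟨P, hP⟩ : ∃ P : Sylow 2 ↥Mx, (P : Subgroup ↥Mx) = T.subgroupOf Mx :=
    ⟨IsPGroup.toSylow hSyl2 hnd, rfl⟩
  have hfr := Sylow.normalizer_sup_eq_top P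
  rw [hP, Subgroup.subgroupOf_map_subtype] at hfr
  have hN : Subgroup.normalizer ((T ⊓ Mx : Subgroup X) : Set X) ≤ M' :=
    (hchar (T ⊓ Mx) (le_inf hJT hJM) inf_le_left).trans hNM
  rw [eq_top_iff, ← hfr]
  exact sup_le hN hMxM

example : Cfsg.Agent.H51.Sy.StGenF2.{u} := genF2

end Cfsg.Agent.H73.Sy

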