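import Mathlib
import Cfsg.Agent.H17.TgDefs
import Cfsg.Agent.H73.TgL11
/-!
S1904 team project (helper17), piece TG-VB: `V_B = Ω₁(B)` is a central four-group on which `A`
acts without fixed points.
-/
set_option autoImplicit false

namespace Cfsg.Agent.H73.Tg

open Cfsg.Agent.H17.Tg

universe u

/-- TG-VB -/
theorem vb (hCent : StCent.{u}) (hL11 : StL11.{u}) (hFour : StFour.{u}) : StVB.{u} := by
  intro X _ _ A hyp B hB hBZ
  have hVZ := omegaOne_central hCent A hyp B hB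
  obtain ⟨hBn, hBA, hBc⟩ := hB
  have hVA : AInv A (omegaOne B hBc) := omegaOne_ainv A B hBA hBc
  have hV2 : ∀ w ∈ omegaOne B hBc, w ^ 2 = 1 := fun w hw => hw.2
  have hVcard : Nat.card (omegaOne B hBc) ≤ 4 :=
    hyp.rank B hBn hBc (omegaOne B hBc) (omegaOne_le B hBc) hV2
  have hmove : ∃ φ ∈ A, ∃ w ∈ omegaOne B hBc, φ w ≠ w := by
    by_contra hcon
    push Not at hcon
    apply hBZ
    exact hL11 X A hyp B ⟨hBn, hBA, hBc⟩ (fun φ hφ v hv hv2 => hcon φ hφ v ⟨hv, hv2⟩)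
  obtain ⟨h1, h2, h3, h4, h5⟩ := hFour X A hyp.odd (omegaOne B hBc) hVA hV2 hVcard hmove
  refine ⟨hVZ, ?_, ?_, ?_, ?_, ?_⟩
  · rw [← h1]
    exact Nat.card_congr (Equiv.subtypeEquivRight (fun v => (mem_omegaOne B hBc v).symm))
  · intro φ hφ
    rcases h2 φ hφ with h | h
    · left
      exact fun v hv hv2 => h v ⟨hv, hv2⟩
    · right
      exact fun v hv hv2 hv1 => h v ⟨hv, hv2⟩ hv1
  · exact fun v hv hv2 hv1 => h3 v ⟨hv, hv2⟩ hv1
  · exact fun v hv hv2 hv1 v' hv' hv'2 hv'1 => h4 v ⟨hv, hv2⟩ hv1 v' ⟨hv', hv'2⟩ hv'1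
  · intro W hWA hW
    rcases h5 W (fun w hw => hW w hw) hWA with h | h
    · left
      exact h
    · right
      intro v hv hv2
      rw [h]
      exact ⟨hv, hv2⟩

example (hCent : StCent.{u}) (hL11 : StL11.{u}) (hFour : StFour.{u}) : StVB.{u} :=
  vb hCent hL11 hFour

end Cfsg.Agent.H73.Tg
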